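import Mathlib.GroupTheory.Transfer
import Mathlib.GroupTheory.FiniteAbelian.Basic
import Mathlib.Data.ZMod.Basic
import Mathlib.Tactic.LinearCombination

/-!
# A central extension by transfer from an abelian Sylow subgroup

For an abelian Sylow `p`-subgroup `P` in which conjugation acts by `x ↦ x` or `x ↦ x⁻¹`, a bilinear
map on `P` with nonzero alternating part transfers to a cocycle on the whole group whose commutator
pairing on `P` is the alternating part times the index of `P`.
-/

set_option autoImplicit false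

namespace CfsgLib.Blocks.InertiaTwo

open scoped commutatorElement

universe u

variable {G : Type u} [Group G] {p : ℕ}

/-- The element of `P` by which `g` moves the representative of `q`. -/
noncomputable def sylElt (P : Subgroup G) (g : G) (q : G ⧸ P) : P :=
  ⟨(g • q).out⁻¹ * g * q.out, by
    rw [mul_assoc, ← QuotientGroup.eq, QuotientGroup.out_eq']
    show g • q = g • ((q.out : G) : G ⧸ P)
    rw [QuotientGroup.out_eq']⟩

theorem reorder {A : Type*} [CommGroup A] (a b c d w : A) :
    a * (b * c * d) * w = c * (d * w) * (a * b) := by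
  simp only [mul_comm, mul_left_comm]

theorem sylElt_mul (P : Subgroup G) (g g' : G) (q : G ⧸ P) :
    sylElt P (g * g') q = sylElt P g (g' • q) * sylElt P g' q := Subtype.ext (by
  show ((g * g') • q).out⁻¹ * (g * g') * q.out
    = (g • g' • q).out⁻¹ * g * (g' • q).out * ((g' • q).out⁻¹ * g' * q.out)
  rw [mul_smul]; group)

theorem sylElt_one (P : Subgroup G) (q : G ⧸ P) : sylElt P 1 q = 1 := by
  have h := sylElt_mul P 1 1 q
  rw [one_mul, one_smul] at h
  exact mul_eq_left.mp h.symm

variable (P : Subgroup G) [Fintype (G ⧸ P)] (f h : P →* Multiplicative (ZMod p))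

/-- The transferred cocycle. -/
noncomputable def corCoc (x y : G) : ZMod p :=
  ∑ q : G ⧸ P, Multiplicative.toAdd (f (sylElt P x (y • q))) * Multiplicative.toAdd (h (sylElt P y q))

theorem corCoc_one_left (y : G) : corCoc P f h 1 y = 0 := by
  simp [corCoc, sylElt_one]

theorem corCoc_one_right (x : G) : corCoc P f h x 1 = 0 := by
  simp [corCoc, sylElt_one]

theorem corCoc_assoc (a b c : G) :
    corCoc P f h a b + corCoc P f h (a * b) c = corCoc P f h a (b * c) + corCoc P f h b c := by
  have e : corCoc P f h a b = ∑ q : G ⧸ P,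
      Multiplicative.toAdd (f (sylElt P a (b • c • q))) * Multiplicative.toAdd (h (sylElt P b (c • q))) :=
    Fintype.sum_equiv (MulAction.toPerm c⁻¹) _ _ fun q => by simp
  rw [e]
  simp only [corCoc, ← Finset.sum_add_distrib, sylElt_mul, map_mul, toAdd_mul, mul_smul]
  exact Finset.sum_congr rfl fun q _ => by ring

/-- The extension. -/
@[ext] structure CorExt {G : Type u} [Group G] {p : ℕ} (P : Subgroup G) [Fintype (G ⧸ P)]
    (f h : P →* Multiplicative (ZMod p)) : Type u where
  /-- the image in `G` -/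
  fst : G
  /-- the central coordinate -/
  snd : ZMod p

namespace CorExt

variable {P} {f h}

noncomputable instance instGroup : Group (CorExt P f h) where
  mul a b := ⟨a.fst * b.fst, a.snd + b.snd + corCoc P f h a.fst b.fst⟩
  one := ⟨1, 0⟩
  inv a := ⟨a.fst⁻¹, -a.snd - corCoc P f h a.fst⁻¹ a.fst⟩
  mul_assoc a b c := by
    refine CorExt.ext (mul_assoc _ _ _) ?_
    show (a.snd + b.snd + corCoc P f h a.fst b.fst) + c.snd + corCoc P f h (a.fst * b.fst) c.fst
      = a.snd + (b.snd + c.snd + corCoc P f h b.fst c.fst) + corCoc P f h a.fst (b.fst * c.fst)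
    linear_combination corCoc_assoc P f h a.fst b.fst c.fst
  one_mul a := CorExt.ext (one_mul _) (by
    show (0 : ZMod p) + a.snd + corCoc P f h 1 a.fst = a.snd
    rw [corCoc_one_left]; ring)
  mul_one a := CorExt.ext (mul_one _) (by
    show a.snd + 0 + corCoc P f h a.fst 1 = a.snd
    rw [corCoc_one_right]; ring)
  inv_mul_cancel a := CorExt.ext (inv_mul_cancel _) (by
    show (-a.snd - corCoc P f h a.fst⁻¹ a.fst) + a.snd + corCoc P f h a.fst⁻¹ a.fst = 0
    ring)

instance instFinite [Finite G] [NeZero p] : Finite (CorExt P f h) :=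
  Finite.of_injective (fun a => (a.fst, a.snd)) fun _ _ e =>
    CorExt.ext (congrArg Prod.fst e) (congrArg Prod.snd e)

/-- Projection to `G`. -/
noncomputable def proj : CorExt P f h →* G where
  toFun a := a.fst
  map_one' := rfl
  map_mul' _ _ := rfl

end CorExt

/-- The alternating part of the transferred cocycle. -/
theorem corCoc_sub {x y : G} (hx : x ∈ P) (hy : y ∈ P) (hxy : x * y = y * x)
    (hfus : ∀ r : G, ∃ e : ℤ, (e = 1 ∨ e = -1) ∧ ∀ l ∈ P, r⁻¹ * l * r ∈ P → r⁻¹ * l * r = l ^ e)
    (hab : ∀ a ∈ P, ∀ b ∈ P, a * b = b * a) :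
    corCoc P f h x y - corCoc P f h y x = (Fintype.card (G ⧸ P) : ZMod p) *
      (Multiplicative.toAdd (f ⟨x, hx⟩) * Multiplicative.toAdd (h ⟨y, hy⟩) -
        Multiplicative.toAdd (f ⟨y, hy⟩) * Multiplicative.toAdd (h ⟨x, hx⟩)) := by
  classical
  let : CommGroup P :=
    { (inferInstance : Group P) with mul_comm := fun a b => Subtype.ext (hab a a.2 b b.2) }
  choose e he1 he2 using hfus
  -- a base point in each orbit
  let base : G ⧸ P → G ⧸ P := fun q => (Quotient.mk (MulAction.orbitRel P (G ⧸ P)) q).out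
  have hbase : ∀ q, ∃ π : P, π • base q = q := fun q => by
    have h1 : MulAction.orbitRel P (G ⧸ P) q (base q) :=
      Quotient.exact' (Quotient.out_eq (Quotient.mk (MulAction.orbitRel P (G ⧸ P)) q)).symm
    exact MulAction.orbitRel_apply.mp h1
  choose π hπ using hbase
  have hinv : ∀ (z : P) q, base (z • q) = base q := fun z q => congrArg Quotient.out
    (Quotient.sound (MulAction.orbitRel_apply.mpr (MulAction.mem_orbit q z)))
  let ε : G ⧸ P → ℤ := fun q => e (base q).out
  have hεinv : ∀ (z : P) q, ε (z • q) = ε q := fun z q => congrArg (fun b => e b.out) (hinv z q)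
  have hw : ∀ q, (base q).out⁻¹ * ((π q : G))⁻¹ * q.out ∈ P := fun q => by
    rw [mul_assoc, ← QuotientGroup.eq, QuotientGroup.out_eq']
    show base q = (π q : G)⁻¹ • ((q.out : G) : G ⧸ P)
    rw [QuotientGroup.out_eq', eq_inv_smul_iff]
    exact hπ q
  let s : G ⧸ P → P := fun q => π q ^ ε q * ⟨_, hw q⟩
  have key : ∀ (z : P) q, sylElt P (z : G) q = z ^ ε q * s q * (s ((z : G) • q))⁻¹ := by
    intro z q
    have hz : base ((z : G) • q) = base q := hinv z q
    set q' := (z : G) • q with hq'
    set r := (base q).out with hr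
    set l : P := (π q')⁻¹ * z * π q with hl
    have hlfix : (l : G) • base q = base q := by
      show (((π q')⁻¹ * z * π q : P) : G) • base q = base q
      rw [Subgroup.coe_mul, Subgroup.coe_mul, Subgroup.coe_inv, mul_smul, mul_smul,
        show (π q : G) • base q = q from hπ q, ← hq']
      conv_lhs => arg 2; rw [← hπ q']
      rw [hz]
      exact inv_smul_smul _ _
    have hmem : r⁻¹ * (l : G) * r ∈ P := by
      rw [mul_assoc, ← QuotientGroup.eq, hr, QuotientGroup.out_eq']
      show base q = (l : G) • (((base q).out : G) : G ⧸ P)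
      rw [QuotientGroup.out_eq', hlfix]
    have hconj : (⟨r⁻¹ * (l : G) * r, hmem⟩ : P) = l ^ ε q :=
      Subtype.ext ((he2 r _ l.2 hmem).trans (SubgroupClass.coe_zpow l _).symm)
    have h1 : sylElt P (z : G) q = (⟨_, hw q'⟩ : P)⁻¹ * ⟨r⁻¹ * (l : G) * r, hmem⟩ * ⟨_, hw q⟩ := by
      refine Subtype.ext ?_
      show q'.out⁻¹ * (z : G) * q.out = ((base q').out⁻¹ * ((π q' : G))⁻¹ * q'.out)⁻¹ *
        (r⁻¹ * (((π q')⁻¹ * z * π q : P) : G) * r) * ((base q).out⁻¹ * ((π q : G))⁻¹ * q.out)
      rw [show base q' = base q from hz, ← hr]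
      simp only [Subgroup.coe_mul, Subgroup.coe_inv]
      group
    have hεq : ε q' = ε q := hεinv z q
    rw [h1, hconj, hl, mul_zpow, mul_zpow, inv_zpow]
    show _ = z ^ ε q * (π q ^ ε q * ⟨_, hw q⟩) * (π q' ^ ε q' * ⟨_, hw q'⟩)⁻¹
    rw [hεq, mul_inv_rev]
    generalize (⟨_, hw q⟩ : P) = W
    generalize (⟨_, hw q'⟩ : P) = W'
    exact reorder _ _ _ _ _
  -- the additive computation
  let σ : G ⧸ P → ZMod p := fun q => Multiplicative.toAdd (f (s q))
  let τ : G ⧸ P → ZMod p := fun q => Multiplicative.toAdd (h (s q))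
  let δ : G ⧸ P → ZMod p := fun q => (ε q : ZMod p)
  have hδ2 : ∀ q, δ q * δ q = 1 := fun q => by
    rcases he1 (base q).out with e' | e' <;> simp [δ, ε, e']
  have hf : ∀ (z : P) q, Multiplicative.toAdd (f (sylElt P (z : G) q))
      = δ q * Multiplicative.toAdd (f z) + σ q - σ ((z : G) • q) := fun z q => by
    rw [key]; simp [δ, σ, zsmul_eq_mul, sub_eq_add_neg]
  have hh : ∀ (z : P) q, Multiplicative.toAdd (h (sylElt P (z : G) q))
      = δ q * Multiplicative.toAdd (h z) + τ q - τ ((z : G) • q) := fun z q => by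
    rw [key]; simp [δ, τ, zsmul_eq_mul, sub_eq_add_neg]
  have hδinv : ∀ (z : P) q, δ ((z : G) • q) = δ q := fun z q =>
    congrArg (fun k : ℤ => (k : ZMod p)) (hεinv z q)
  have hshift : ∀ (z : P) (φ : G ⧸ P → ZMod p), ∑ q, φ ((z : G) • q) = ∑ q, φ q := fun z φ =>
    Equiv.sum_comp (MulAction.toPerm (z : G)) φ
  -- the correction term
  let T : G → ZMod p := fun g => ∑ q, σ (g • q) * τ q
  have one : ∀ a b : P, corCoc P f h a b = (Fintype.card (G ⧸ P) : ZMod p) *
      (Multiplicative.toAdd (f a) * Multiplicative.toAdd (h b)) + T b + T a - T ((a : G) * b) - T 1 := by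
    intro a b
    set A := Multiplicative.toAdd (f a)
    set B := Multiplicative.toAdd (h b)
    have e1 : ∑ q, δ q * τ ((b : G) • q) = ∑ q, δ q * τ q :=
      (Finset.sum_congr rfl fun q _ => by rw [hδinv]).trans (hshift b fun q => δ q * τ q)
    have e2 : ∑ q, δ q * σ ((a : G) • (b : G) • q) = ∑ q, δ q * σ ((b : G) • q) := by
      have h0 := hshift b fun q => δ q * σ ((a : G) • q)
      simp only [hδinv] at h0
      have h1 := hshift a fun q => δ q * σ q
      simp only [hδinv] at h1
      have h2 := hshift b fun q => δ q * σ q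
      simp only [hδinv] at h2
      rw [h0, h1, h2]
    have e3 : ∑ q, σ ((b : G) • q) * τ ((b : G) • q) = T 1 := by
      simp only [T, one_smul]
      exact hshift b fun q => σ q * τ q
    have e4 : ∑ q, σ ((a : G) • (b : G) • q) * τ ((b : G) • q) = T a :=
      hshift b fun q => σ ((a : G) • q) * τ q
    calc corCoc P f h a b = ∑ q, (δ q * A + σ ((b : G) • q) - σ ((a : G) • (b : G) • q))
          * (δ q * B + τ q - τ ((b : G) • q)) :=
          Finset.sum_congr rfl fun q _ => by rw [hf, hh, hδinv]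
      _ = (∑ _q : G ⧸ P, A * B) + A * (∑ q, δ q * τ q - ∑ q, δ q * τ ((b : G) • q))
          + B * (∑ q, δ q * σ ((b : G) • q) - ∑ q, δ q * σ ((a : G) • (b : G) • q))
          + T b - ∑ q, σ ((b : G) • q) * τ ((b : G) • q) - T ((a : G) * b)
          + ∑ q, σ ((a : G) • (b : G) • q) * τ ((b : G) • q) := by
          simp only [T, mul_smul, Finset.mul_sum, ← Finset.sum_sub_distrib, ← Finset.sum_add_distrib]
          exact Finset.sum_congr rfl fun q _ => by linear_combination (A * B) * hδ2 q
      _ = _ := by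
          rw [e1, e2, e3, e4, sub_self, sub_self, Finset.sum_const, Finset.card_univ, nsmul_eq_mul]
          ring
  rw [one ⟨x, hx⟩ ⟨y, hy⟩, one ⟨y, hy⟩ ⟨x, hx⟩, show (y : G) * x = x * y from hxy.symm]
  ring

/-- Two characters with determinant one on a noncyclic abelian `p`-group. -/
theorem exists_pair (Q : Type u) [CommGroup Q] [Finite Q] [Fact p.Prime] (hQ : IsPGroup p Q)
    (hnc : ¬ IsCyclic Q) : ∃ (f h : Q →* Multiplicative (ZMod p)) (x y : Q),
      Multiplicative.toAdd (f x) * Multiplicative.toAdd (h y)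
        - Multiplicative.toAdd (f y) * Multiplicative.toAdd (h x) = 1 := by
  obtain ⟨ι, _, n, hn, ⟨e⟩⟩ := CommGroup.equiv_prod_multiplicative_zmod_of_finite Q
  classical
  by_cases hcop : Pairwise fun i j => Nat.Coprime (n i) (n j)
  · refine absurd ?_ hnc
    let r := ZMod.prodEquivPi n hcop
    let e' : Multiplicative (ZMod (∏ i, n i)) ≃* Q :=
      (((AddEquiv.toMultiplicative r.toAddEquiv).trans
        { toFun := fun x i => Multiplicative.ofAdd (Multiplicative.toAdd x i)
          invFun := fun x => Multiplicative.ofAdd fun i => Multiplicative.toAdd (x i)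
          left_inv := fun _ => rfl
          right_inv := fun _ => rfl
          map_mul' := fun _ _ => rfl }).trans e.symm)
    exact isCyclic_of_surjective e'.toMonoidHom e'.surjective
  · rw [Pairwise] at hcop
    push Not at hcop
    obtain ⟨i, j, hij, hnc'⟩ := hcop
    have hpow : ∀ k, ∃ a, n k = p ^ a := fun k => by
      obtain ⟨a, ha⟩ := IsPGroup.iff_orderOf.mp hQ (e.symm (Pi.mulSingle k (Multiplicative.ofAdd 1)))
      refine ⟨a, ?_⟩
      rw [← ha, MulEquiv.orderOf_eq, ← MonoidHom.mulSingle_apply, orderOf_injective (MonoidHom.mulSingle (fun i => Multiplicative (ZMod (n i))) k) (Pi.mulSingle_injective (M := fun i => Multiplicative (ZMod (n i))) k),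
        orderOf_ofAdd_eq_addOrderOf, ZMod.addOrderOf_one]
    have hpd : ∀ k, n k ≠ 1 → p ∣ n k := fun k hk => by
      obtain ⟨a, ha⟩ := hpow k
      exact ha ▸ dvd_pow_self p fun h0 => hk (by rw [ha, h0, pow_zero])
    have hpi : p ∣ n i := hpd i fun h1 => hnc' (by simp [h1])
    have hpj : p ∣ n j := hpd j fun h1 => hnc' (by simp [h1])
    let f : Q →* Multiplicative (ZMod p) :=
      (AddMonoidHom.toMultiplicative (ZMod.castHom hpi (ZMod p)).toAddMonoidHom).comp
        ((Pi.evalMonoidHom _ i).comp e.toMonoidHom)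
    let g : Q →* Multiplicative (ZMod p) :=
      (AddMonoidHom.toMultiplicative (ZMod.castHom hpj (ZMod p)).toAddMonoidHom).comp
        ((Pi.evalMonoidHom _ j).comp e.toMonoidHom)
    refine ⟨f, g, e.symm (Pi.mulSingle i (Multiplicative.ofAdd 1)), e.symm (Pi.mulSingle j (Multiplicative.ofAdd 1)), ?_⟩
    simp [f, g, Pi.mulSingle_eq_of_ne hij, Pi.mulSingle_eq_of_ne hij.symm, ZMod.cast_one hpi, ZMod.cast_one hpj]

/-- A nonsplit central extension of order `p`, split by no abelian preimage of `P`. -/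
theorem exists_extension [Finite G] [Fact p.Prime] (S : Sylow p G)
    (hab : ∀ a ∈ (S : Subgroup G), ∀ b ∈ (S : Subgroup G), a * b = b * a)
    (hnc : ¬ IsCyclic ↥(S : Subgroup G))
    (hfus : ∀ r : G, ∃ e : ℤ, (e = 1 ∨ e = -1) ∧
      ∀ l ∈ (S : Subgroup G), r⁻¹ * l * r ∈ (S : Subgroup G) → r⁻¹ * l * r = l ^ e) :
    ∃ (E : Type u) (_ : Group E) (_ : Finite E) (ξ : E →* G), Function.Surjective ξ ∧
      ξ.ker ≤ Subgroup.center E ∧ Nat.card ξ.ker = p ∧ ∃ a b : E, ⁅a, b⁆ ∈ ξ.ker ∧ ⁅a, b⁆ ≠ 1 := by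
  let : CommGroup ↥(S : Subgroup G) :=
    { (inferInstance : Group ↥(S : Subgroup G)) with mul_comm := fun a b => Subtype.ext (hab a a.2 b b.2) }
  obtain ⟨f, h, x, y, hxy⟩ := exists_pair _ S.2 hnc
  let := Fintype.ofFinite (G ⧸ (S : Subgroup G))
  have hc : (x : G) * y = y * x := hab x x.2 y y.2
  have hD := corCoc_sub (S : Subgroup G) f h x.2 y.2 hc hfus hab
  rw [hxy, mul_one, ← Nat.card_eq_fintype_card, ← Subgroup.index_eq_card] at hD
  refine ⟨CorExt (S : Subgroup G) f h, inferInstance, inferInstance, CorExt.proj, fun g => ⟨⟨g, 0⟩, rfl⟩,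
    fun a ha => ?_, ?_, ⟨(⟨(x : G), 0⟩ : CorExt (S : Subgroup G) f h), ⟨(y : G), 0⟩, ?_, fun e => ?_⟩⟩
  · have ha1 : a.fst = 1 := ha
    refine Subgroup.mem_center_iff.mpr fun b => CorExt.ext ?_ ?_
    · show b.fst * a.fst = a.fst * b.fst
      rw [ha1, one_mul, mul_one]
    · show b.snd + a.snd + corCoc _ f h b.fst a.fst = a.snd + b.snd + corCoc _ f h a.fst b.fst
      rw [ha1, corCoc_one_left, corCoc_one_right]; ring
  · refine (Nat.card_congr (β := ZMod p)
      (α := ↥(CorExt.proj (P := (S : Subgroup G)) (f := f) (h := h)).ker)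
      { toFun := fun a => a.1.snd
        invFun := fun a => ⟨⟨1, a⟩, rfl⟩
        left_inv := fun a => Subtype.ext (CorExt.ext (show a.1.fst = 1 from a.2).symm rfl)
        right_inv := fun _ => rfl }).trans (Nat.card_zmod p)
  · show ⁅(x : G), (y : G)⁆ = 1
    exact commutatorElement_eq_one_iff_mul_comm.mpr hc
  · have e' := congrArg CorExt.snd (commutatorElement_eq_one_iff_mul_comm.mp e)
    change (0 : ZMod p) + 0 + corCoc _ f h x y = 0 + 0 + corCoc _ f h y x at e'
    refine S.not_dvd_index ((ZMod.natCast_eq_zero_iff _ _).mp ?_)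
    rw [← hD]
    linear_combination e'

end CfsgLib.Blocks.InertiaTwo
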