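import Cfsg.Agent.Lib.Blocks.InertiaTwo.Main
import Cfsg.Agent.Lib.Blocks.InertiaTwo.Extension
import Cfsg.Agent.Lib.Fusion.Quotient
import Cfsg.Agent.Lib.Components.PComponents
import Cfsg.Agent.Lib.OddOrder.PLengthComplement

/-!
# An abelian noncyclic Sylow subgroup with inertial index two

Either there is a nontrivial `p`-quotient or the group has `p`-length one.
-/

set_option autoImplicit false

namespace CfsgLib.Blocks.InertiaTwo

open Subgroup CfsgLib.Blocks.TIAbelian

universe u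

variable {G : Type u} [Group G] {p : ℕ} [hp : Fact p.Prime]

/-- The normalizer acts as the identity or the inversion, and the inversion occurs. -/
structure InvAut (P : Sylow p G) : Prop where
  comm : ∀ x ∈ (P : Subgroup G), ∀ y ∈ (P : Subgroup G), x * y = y * x
  dich : ∀ n ∈ normalizer ((P : Subgroup G) : Set G),
    n ∈ centralizer ((P : Subgroup G) : Set G) ∨ ∀ x ∈ (P : Subgroup G), n * x * n⁻¹ = x⁻¹
  exist : ∃ u ∈ normalizer ((P : Subgroup G) : Set G), ∀ x ∈ (P : Subgroup G), u * x * u⁻¹ = x⁻¹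
  odd : p ≠ 2
  noncyclic : ¬ IsCyclic ↥(P : Subgroup G)

theorem eq_one_of_inv (hodd : p ≠ 2) (P : Sylow p G) {x : G} (hx : x ∈ (P : Subgroup G))
    (h : x⁻¹ = x) : x = 1 := by
  obtain ⟨k, hk⟩ := IsPGroup.iff_orderOf.mp P.2 ⟨x, hx⟩
  rw [Subgroup.orderOf_mk] at hk
  refine orderOf_eq_one_iff.mp (Nat.eq_one_of_dvd_coprimes (a := 2) (b := p ^ k) ?_
    (orderOf_dvd_of_pow_eq_one (by rw [sq]; exact inv_eq_iff_mul_eq_one.mp h)) (hk ▸ dvd_rfl))
  exact Nat.Coprime.pow_right _ ((Nat.coprime_primes Nat.prime_two hp.out).mpr (Ne.symm hodd))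

namespace InvAut

variable {P : Sylow p G} (h : InvAut P)
include h

theorem nine_le [Finite G] : 9 ≤ Nat.card ↥(P : Subgroup G) := by
  obtain ⟨k, hk⟩ := IsPGroup.iff_card.mp P.2
  have h3 : 3 ≤ p := by
    have := hp.out.two_le
    have := h.odd
    omega
  match k, hk with
  | 0, hk => exact absurd (Nat.card_eq_one_iff_unique.mp (hk.trans (pow_zero p))).1 fun _ =>
      h.noncyclic inferInstance
  | 1, hk => exact absurd (isCyclic_of_prime_card (p := p) (hk.trans (pow_one p))) h.noncyclic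
  | k + 2, hk =>
    rw [hk]
    calc 9 = 3 ^ 2 := by norm_num
      _ ≤ p ^ 2 := Nat.pow_le_pow_left h3 2
      _ ≤ p ^ (k + 2) := Nat.pow_le_pow_right hp.out.pos (by omega)

theorem frobSylow [Fintype G] : FrobSylow P := by
  refine ⟨h.comm, fun y hy hy1 n hn => ?_⟩
  obtain ⟨hnC, hnN⟩ := hn
  refine (h.dich n hnN).resolve_right fun hinv => hy1 (eq_one_of_inv h.odd P hy ?_)
  rw [← hinv y hy, mem_centralizer_singleton_iff.mp hnC, mul_inv_cancel_right]

theorem autCard_two [Fintype G] : autCard P = 2 := by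
  rw [autCard_eq, Subgroup.relIndex, Subgroup.index_eq_two_iff]
  obtain ⟨u, huN, hu⟩ := h.exist
  have huC : u ∉ centralizer ((P : Subgroup G) : Set G) := by
    intro hc
    obtain ⟨x, hx, hx1⟩ : ∃ x ∈ (P : Subgroup G), x ≠ 1 := by
      by_contra hno
      push Not at hno
      have := h.nine_le
      rw [(Subgroup.eq_bot_iff_forall _).mpr hno, Subgroup.card_bot] at this
      omega
    refine hx1 (eq_one_of_inv h.odd P hx ?_)
    rw [← hu x hx, ← mem_centralizer_iff.mp hc x hx, mul_inv_cancel_right]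
  refine ⟨⟨u, huN⟩, fun b => ?_⟩
  simp only [Subgroup.mem_subgroupOf, Subgroup.coe_mul]
  by_cases hb : (b : G) ∈ centralizer ((P : Subgroup G) : Set G)
  · exact Or.inr ⟨hb, fun hbu => huC (by simpa using mul_mem (inv_mem hb) hbu)⟩
  · refine Or.inl ⟨mem_centralizer_iff.mpr fun x hx => ?_, hb⟩
    have hbi := (h.dich b b.2).resolve_left hb
    have e : ((b : G) * u) * x * ((b : G) * u)⁻¹ = x := by
      rw [show ((b : G) * u) * x * ((b : G) * u)⁻¹ = (b : G) * (u * x * u⁻¹) * (b : G)⁻¹ by group,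
        hu x hx, hbi x⁻¹ (inv_mem hx), inv_inv]
    exact (mul_inv_eq_iff_eq_mul.mp e).symm

theorem fusion [Finite G] (r : G) : ∃ e : ℤ, (e = 1 ∨ e = -1) ∧
    ∀ l ∈ (P : Subgroup G), r⁻¹ * l * r ∈ (P : Subgroup G) → r⁻¹ * l * r = l ^ e := by
  haveI : IsMulCommutative ↥(P : Subgroup G) := ⟨⟨fun a b => Subtype.ext (h.comm a a.2 b b.2)⟩⟩
  have key : ∀ l ∈ (P : Subgroup G), r⁻¹ * l * r ∈ (P : Subgroup G) →
      r⁻¹ * l * r = l ∨ r⁻¹ * l * r = l⁻¹ := by
    intro l hl hl'
    obtain ⟨n, hn, e⟩ := Sylow.conj_eq_normalizer_conj_of_mem P l r hl hl'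
    rcases h.dich n⁻¹ (inv_mem hn) with hc | hc
    · left
      rw [e]
      have := mem_centralizer_iff.mp hc l hl
      rw [← this, mul_assoc, inv_mul_cancel, mul_one]
    · right
      have := hc l hl
      rwa [inv_inv, ← e] at this
  by_contra hno
  push Not at hno
  obtain ⟨a, ha, ha', hane⟩ := hno 1 (Or.inl rfl)
  obtain ⟨b, hb, hb', hbne⟩ := hno (-1) (Or.inr rfl)
  rw [zpow_one] at hane
  rw [zpow_neg_one] at hbne
  have ea : r⁻¹ * a * r = a⁻¹ := (key a ha ha').resolve_left hane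
  have eb : r⁻¹ * b * r = b := (key b hb hb').resolve_right hbne
  have eab : r⁻¹ * (a * b) * r = a⁻¹ * b := by
    rw [show r⁻¹ * (a * b) * r = (r⁻¹ * a * r) * (r⁻¹ * b * r) by group, ea, eb]
  rcases key (a * b) (mul_mem ha hb) (eab ▸ mul_mem (inv_mem ha) hb) with e | e <;> rw [eab] at e
  · exact hane (by rw [ea]; exact mul_right_cancel e)
  · rw [mul_inv_rev, h.comm b⁻¹ (inv_mem hb) a⁻¹ (inv_mem ha)] at e
    exact hbne (by rw [eb]; exact mul_left_cancel e)

/-- The condition passes to images with liftable normalizers. -/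
theorem map [Finite G] {H : Type u} [Group H] [Finite H] (φ : G →* H) (Q : Sylow p H)
    (hQ : (Q : Subgroup H) = (P : Subgroup G).map φ)
    (hinj : ∀ x ∈ (P : Subgroup G), φ x = 1 → x = 1)
    (hN : ∀ m ∈ normalizer ((Q : Subgroup H) : Set H),
      ∃ n ∈ normalizer ((P : Subgroup G) : Set G), φ n = m) : InvAut Q := by
  refine ⟨?_, fun m hm => ?_, ?_, h.odd, fun hc => h.noncyclic ?_⟩
  · rw [hQ]
    rintro _ ⟨x, hx, rfl⟩ _ ⟨y, hy, rfl⟩
    rw [← map_mul, h.comm x hx y hy, map_mul]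
  · obtain ⟨n, hn, rfl⟩ := hN m hm
    rcases h.dich n hn with hc | hc
    · left
      refine mem_centralizer_iff.mpr ?_
      rw [hQ]
      rintro _ ⟨x, hx, rfl⟩
      rw [← map_mul, mem_centralizer_iff.mp hc x hx, map_mul]
    · right
      rw [hQ]
      rintro _ ⟨x, hx, rfl⟩
      rw [← map_inv, ← map_mul, ← map_mul, hc x hx, map_inv]
  · obtain ⟨u, huN, hu⟩ := h.exist
    refine ⟨φ u, ?_, ?_⟩
    · rw [hQ]; exact le_normalizer_map φ ⟨u, huN, rfl⟩
    · rw [hQ]
      rintro _ ⟨x, hx, rfl⟩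
      rw [← map_inv, ← map_mul, ← map_mul, hu x hx, map_inv]
  · haveI := hc
    let ψ : ↥(P : Subgroup G) →* ↥(Q : Subgroup H) :=
      (φ.comp (P : Subgroup G).subtype).codRestrict _ fun x => hQ ▸ mem_map_of_mem φ x.2
    exact isCyclic_of_injective ψ ((injective_iff_map_eq_one ψ).mpr fun x hx =>
      Subtype.ext (hinj x x.2 (congrArg Subtype.val hx)))

end InvAut

/-- From the index hypothesis: no nontrivial `p`-quotient gives inversion. -/
theorem invAut_of_index [Finite G] (hodd : p ≠ 2) (P : Sylow p G)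
    (hab : ∀ x ∈ (P : Subgroup G), ∀ y ∈ (P : Subgroup G), x * y = y * x)
    (hnc : ¬ IsCyclic ↥(P : Subgroup G))
    (hidx : ((centralizer ((P : Subgroup G) : Set G)).subgroupOf
      (normalizer ((P : Subgroup G) : Set G))).index = 2)
    (hres : Cfsg.pResidual p G = ⊤) : InvAut P := by
  set N := normalizer ((P : Subgroup G) : Set G)
  set C := centralizer ((P : Subgroup G) : Set G)
  obtain ⟨⟨u, huN⟩, huC⟩ : ∃ u : ↥N, u ∉ C.subgroupOf N := by
    by_contra hno
    push Not at hno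
    rw [(eq_top_iff' _).mpr hno, index_top] at hidx
    omega
  rw [mem_subgroupOf] at huC
  have hu2 : u * u ∈ C := by
    have := (mul_mem_iff_of_index_two hidx (a := ⟨u, huN⟩) (b := ⟨u, huN⟩)).mpr Iff.rfl
    rwa [mem_subgroupOf] at this
  have hmemP : ∀ n ∈ N, ∀ x ∈ (P : Subgroup G), n * x * n⁻¹ ∈ (P : Subgroup G) := fun n hn x hx =>
    (mem_normalizer_iff.mp hn x).mp hx
  have hdich : ∀ n ∈ N, n ∈ C ∨ ∀ x ∈ (P : Subgroup G), n * x * n⁻¹ = u * x * u⁻¹ := by
    intro n hn
    by_cases hc : n ∈ C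
    · exact Or.inl hc
    right
    intro x hx
    have h1 : u⁻¹ * n ∈ C := by
      have := (mul_mem_iff_of_index_two hidx (a := (⟨u, huN⟩ : ↥N)⁻¹) (b := ⟨n, hn⟩)).mpr
        ⟨fun h' => absurd (mem_subgroupOf.mp (inv_mem_iff.mp h')) huC,
          fun h' => absurd (mem_subgroupOf.mp h') hc⟩
      rwa [mem_subgroupOf] at this
    have h2 := mem_centralizer_iff.mp h1 x hx
    calc n * x * n⁻¹ = u * (u⁻¹ * n * x) * n⁻¹ := by group
      _ = u * (x * (u⁻¹ * n)) * n⁻¹ := by rw [h2]
      _ = _ := by group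
  -- no fixed points
  have hfix : ∀ y ∈ (P : Subgroup G), u * y * u⁻¹ = y → y = 1 := by
    intro y hy hyu
    haveI : IsMulCommutative ↥(P : Subgroup G) := ⟨⟨fun a b => Subtype.ext (hab a a.2 b b.2)⟩⟩
    let : CommGroup ↥(P : Subgroup G) :=
      { (inferInstance : Group ↥(P : Subgroup G)) with mul_comm := fun a b => Subtype.ext (hab a a.2 b b.2) }
    let V := MonoidHom.transfer (MonoidHom.id ↥(P : Subgroup G))
    have hV : V y = 1 := by
      have hker := Fusion.Basic.pResidual_le_ker V P.2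
      rw [hres] at hker
      exact hker (mem_top y)
    have hcent : ∀ n ∈ N, n * y * n⁻¹ = y := fun n hn => by
      rcases hdich n hn with hc | hc
      · rw [← mem_centralizer_iff.mp hc y hy, mul_inv_cancel_right]
      · rw [hc y hy, hyu]
    have key : ∀ (k : ℕ) (g₀ : G), g₀⁻¹ * y ^ k * g₀ ∈ (P : Subgroup G) →
        g₀⁻¹ * y ^ k * g₀ = y ^ k := by
      intro k g₀ hk
      obtain ⟨n, hn, e⟩ := Sylow.conj_eq_normalizer_conj_of_mem P (y ^ k) g₀ (pow_mem hy k) hk
      have hc := hcent n⁻¹ (inv_mem hn)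
      rw [inv_inv] at hc
      rw [e]
      calc n⁻¹ * y ^ k * n = (n⁻¹ * y * n) ^ k := by
            rw [show n⁻¹ * y * n = n⁻¹ * y * n⁻¹⁻¹ by rw [inv_inv], conj_pow, inv_inv]
        _ = y ^ k := by rw [hc]
    have h1 := MonoidHom.transfer_eq_pow (MonoidHom.id ↥(P : Subgroup G)) y key
    rw [show MonoidHom.transfer (MonoidHom.id ↥(P : Subgroup G)) y = V y from rfl, hV] at h1
    have h2 : y ^ (P : Subgroup G).index = 1 := (congrArg Subtype.val h1).symm
    refine orderOf_eq_one_iff.mp (Nat.eq_one_of_dvd_coprimes (b := Nat.card ↥(P : Subgroup G)) ?_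
      (orderOf_dvd_of_pow_eq_one h2) (Subgroup.orderOf_dvd_natCard _ hy))
    obtain ⟨k, hk⟩ := IsPGroup.iff_card.mp P.2
    rw [hk]
    exact Nat.Coprime.pow_right _ ((hp.out.coprime_iff_not_dvd.mpr P.not_dvd_index).symm)
  have hinv : ∀ x ∈ (P : Subgroup G), u * x * u⁻¹ = x⁻¹ := by
    intro x hx
    have hux := hmemP u huN x hx
    have h2 : (u * u) * x * (u * u)⁻¹ = x := by
      rw [← mem_centralizer_iff.mp hu2 x hx, mul_inv_cancel_right]
    have := hfix (x * (u * x * u⁻¹)) (mul_mem hx hux) (by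
      rw [show u * (x * (u * x * u⁻¹)) * u⁻¹ = (u * x * u⁻¹) * ((u * u) * x * (u * u)⁻¹) by group, h2,
        hab x hx _ hux])
    exact (inv_eq_of_mul_eq_one_right this).symm
  exact ⟨hab, fun n hn => (hdich n hn).imp id fun e x hx => (e x hx).trans (hinv x hx),
    ⟨u, huN, hinv⟩, hodd, hnc⟩

/-- The dichotomy for `G` with trivial `p'`-core: a linear character or no involutions. -/
theorem linear_or_odd [Finite G] {P : Sylow p G} (h : InvAut P) (hO : Cfsg.pPrimeCore p G = ⊥) :
    ∃ μ : G →* ℂˣ, μ ≠ 1 ∧ ∀ c ∈ centralizer ((P : Subgroup G) : Set G), μ c = 1 := by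
  classical
  obtain ⟨E, _, _, ξ, hξ, hker, hcard, hnon⟩ := exists_extension P h.comm h.noncyclic h.fusion
  letI : Fintype E := Fintype.ofFinite E
  letI : Fintype (E ⧸ ξ.ker) := Fintype.ofFinite _
  let e : E ⧸ ξ.ker ≃* G := QuotientGroup.quotientKerEquivOfSurjective ξ hξ
  let P' : Sylow p (E ⧸ ξ.ker) := P.mapSurjective (f := e.symm.toMonoidHom) e.symm.surjective
  have hP' : (P' : Subgroup (E ⧸ ξ.ker)) = (P : Subgroup G).map e.symm.toMonoidHom :=
    Sylow.coe_mapSurjective _ _
  have h' : InvAut P' := h.map e.symm.toMonoidHom P' hP'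
    (fun x _ hx => e.symm.map_eq_one_iff.mp hx) fun m hm => by
      refine ⟨e m, ?_, e.symm_apply_apply m⟩
      rw [hP'] at hm
      rw [mem_normalizer_iff] at hm ⊢
      intro x
      have := hm (e.symm x)
      simp only [mem_map, MulEquiv.coe_toMonoidHom] at this
      constructor
      · intro hx
        obtain ⟨y, hy, hye⟩ := this.mp ⟨x, hx, rfl⟩
        rwa [show e m * x * (e m)⁻¹ = y from e.symm.injective (by
          rw [map_mul, map_mul, map_inv, e.symm_apply_apply, hye])]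
      · intro hx
        obtain ⟨y, hy, hye⟩ := this.mpr ⟨_, hx, by rw [map_mul, map_mul, map_inv, e.symm_apply_apply]⟩
        rwa [← e.symm.injective hye]
  rcases main h.odd hker hcard hnon h'.frobSylow h'.autCard_two h'.nine_le with ⟨μ, hμ, hμC⟩ | hinv
  · refine ⟨μ.comp e.symm.toMonoidHom, fun e0 => hμ (MonoidHom.ext fun q => ?_), fun c hc => hμC _ ?_⟩
    · have := DFunLike.congr_fun e0 (e q)
      simpa using this
    · refine mem_centralizer_iff.mpr ?_
      rw [hP']
      rintro _ ⟨x, hx, rfl⟩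
      simp only [MulEquiv.coe_toMonoidHom, ← map_mul, mem_centralizer_iff.mp hc x hx]
  · exfalso
    obtain ⟨u, huN, hu⟩ := h.exist
    have h2 : 2 ∣ Nat.card G := by
      by_contra hodd2
      obtain ⟨x, hx, hx1⟩ : ∃ x ∈ (P : Subgroup G), x ≠ 1 := by
        by_contra hno
        push Not at hno
        have := h.nine_le
        rw [(Subgroup.eq_bot_iff_forall _).mpr hno, Subgroup.card_bot] at this
        omega
      -- an element of odd order fixing the square is fixing
      have hord : ¬ 2 ∣ orderOf u := fun hd => hodd2 (hd.trans (orderOf_dvd_natCard u))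
      obtain ⟨k, hk⟩ : ∃ k, orderOf u = 2 * k + 1 := Nat.odd_iff.mpr (by omega)
      have hu2 : Commute (u ^ 2) x := by
        show u ^ 2 * x = x * u ^ 2
        have e2 : u * (u * x * u⁻¹) * u⁻¹ = x := by
          rw [hu x hx, show u * x⁻¹ * u⁻¹ = (u * x * u⁻¹)⁻¹ by group, hu x hx, inv_inv]
        calc u ^ 2 * x = u * (u * x * u⁻¹) * u⁻¹ * (u * u) := by rw [sq]; group
          _ = x * u ^ 2 := by rw [e2, sq]
      have hc : Commute u x := by
        have h3 : Commute (u ^ (2 * (k + 1))) x := by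
          rw [pow_mul]; exact hu2.pow_left _
        rwa [show 2 * (k + 1) = orderOf u + 1 by omega, pow_succ, pow_orderOf_eq_one, one_mul] at h3
      refine hx1 (eq_one_of_inv h.odd P hx ?_)
      rw [← hu x hx, hc.eq, mul_inv_cancel_right]
    haveI : Fact (Nat.Prime 2) := ⟨Nat.prime_two⟩
    obtain ⟨t, ht⟩ := exists_prime_orderOf_dvd_card' 2 h2
    obtain ⟨K, hK, htK, hKP⟩ := hinv (e.symm t) (by
      rw [← map_pow, ← ht, pow_orderOf_eq_one, map_one])
    set K' := K.map e.toMonoidHom with hK'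
    haveI : K'.Normal := hK.map _ e.surjective
    have hle : K' ≤ Cfsg.pPrimeCore p G := by
      refine Solvable.Cores.le_pPrimeCore ?_
      rw [hK', Subgroup.card_map_of_injective (f := e.toMonoidHom) e.injective]
      refine Nat.Coprime.symm (hp.out.coprime_iff_not_dvd.mpr fun hd => ?_)
      obtain ⟨v, hv⟩ := exists_prime_orderOf_dvd_card' p hd
      obtain ⟨g, hg⟩ := exists_conj_mem_sylow_p P' (R := zpowers (v : E ⧸ ξ.ker))
        (IsPGroup.of_card (n := 1) (by rw [Nat.card_zpowers, Subgroup.orderOf_coe, hv, pow_one]))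
      have h1 : g * (v : E ⧸ ξ.ker) * g⁻¹ ∈ (P' : Subgroup (E ⧸ ξ.ker)) ⊓ K :=
        ⟨hg _ (mem_zpowers _), hK.conj_mem _ v.2 g⟩
      rw [hKP, mem_bot, conj_eq_one_iff] at h1
      rw [← Subgroup.orderOf_coe, h1, orderOf_one] at hv
      exact hp.out.one_lt.ne hv
    have : t = 1 := by
      have := hle ⟨e.symm t, htK, e.apply_symm_apply t⟩
      rwa [hO, mem_bot] at this
    rw [this, orderOf_one] at ht
    norm_num at ht

/-- The theorem. -/
theorem pResidual_or_pLength [Finite G] (hodd : p ≠ 2) (P : Sylow p G)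
    (hab : ∀ x ∈ (P : Subgroup G), ∀ y ∈ (P : Subgroup G), x * y = y * x)
    (hnc : ¬ IsCyclic ↥(P : Subgroup G))
    (hidx : ((centralizer ((P : Subgroup G) : Set G)).subgroupOf
      (normalizer ((P : Subgroup G) : Set G))).index = 2) :
    Cfsg.pResidual p G ≠ ⊤ ∨ Cfsg.PLengthLE p 1 G := by
  by_cases hres : Cfsg.pResidual p G = ⊤
  swap
  · exact Or.inl hres
  right
  have h := invAut_of_index hodd P hab hnc hidx hres
  set O := Cfsg.pPrimeCore p G with hOdef
  set mk := QuotientGroup.mk' O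
  have hOc : (Nat.card O).Coprime p := Solvable.Cores.coprime_card_pPrimeCore p
  let Pb : Sylow p (G ⧸ O) := P.mapSurjective (f := mk) (QuotientGroup.mk'_surjective O)
  have hPb : (Pb : Subgroup (G ⧸ O)) = (P : Subgroup G).map mk := Sylow.coe_mapSurjective _ _
  have hb : InvAut Pb := h.map mk Pb hPb (fun x hx hx1 => by
      have hxO : x ∈ (P : Subgroup G) ⊓ O := ⟨hx, (QuotientGroup.eq_one_iff x).mp hx1⟩
      rwa [Fusion.Basic.inf_eq_bot_of_coprime P.2 hOc, mem_bot] at hxO) fun m hm => by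
    rw [hPb, Fusion.Quotient.normalizer_map hOc P.2] at hm
    exact hm
  obtain ⟨μ, hμ, hμC⟩ := linear_or_odd hb Components.pPrimeCore_quotient_eq_bot
  set ν : G →* ℂˣ := μ.comp mk with hν
  set M := ν.ker with hM
  have hνC : centralizer ((P : Subgroup G) : Set G) ≤ M := fun c hc => hμC _ (by
    refine mem_centralizer_iff.mpr ?_
    rw [hPb]
    rintro _ ⟨x, hx, rfl⟩
    rw [← map_mul, mem_centralizer_iff.mp hc x hx, map_mul])
  have hPM : (P : Subgroup G) ≤ M := fun x hx =>
    hνC (mem_centralizer_iff.mpr fun y hy => hab y hy x hx)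
  -- the normalizer meets `M` in the centralizer
  have hNM : ∀ n ∈ normalizer ((P : Subgroup G) : Set G), n ∈ M →
      n ∈ centralizer ((P : Subgroup G) : Set G) := by
    intro n hn hnM
    by_contra hc
    refine hμ (MonoidHom.ext fun q => ?_)
    obtain ⟨g, rfl⟩ := QuotientGroup.mk'_surjective O q
    have hNle : normalizer ((P : Subgroup G) : Set G) ≤ M := by
      intro m hm
      by_cases hmc : m ∈ centralizer ((P : Subgroup G) : Set G)
      · exact hνC hmc
      have h1 := (mul_mem_iff_of_index_two hidx (a := ⟨m, hm⟩) (b := ⟨n, hn⟩)).mpr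
        ⟨fun h' => absurd (mem_subgroupOf.mp h') hmc, fun h' => absurd (mem_subgroupOf.mp h') hc⟩
      have h2 := mul_mem (hνC (mem_subgroupOf.mp h1)) (inv_mem hnM)
      simpa using h2
    have : g ∈ M := by
      have htop : normalizer ((P : Subgroup G) : Set G) ⊔ M = ⊤ :=
        Sylow.normalizer_sup_eq_top' P hPM
      rw [sup_eq_right.mpr hNle] at htop
      exact htop ▸ mem_top g
    exact this
  have hnpc : Cfsg.HasNormalPComplement p ↥M := by
    refine Fusion.Abelian.npc_of_normalizer_le_centralizer (P.subtype hPM) fun g hg => ?_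
    have hgN : (g : G) ∈ normalizer ((P : Subgroup G) : Set G) := by
      refine mem_normalizer_iff.mpr fun u => ⟨fun hu => ?_, fun hu => ?_⟩
      · exact mem_subgroupOf.mp ((mem_normalizer_iff.mp hg ⟨u, hPM hu⟩).mp (mem_subgroupOf.mpr hu))
      · have huM : u ∈ M := by
          have h2 := mul_mem (mul_mem (inv_mem g.2) (hPM hu)) g.2
          rwa [show (g : G)⁻¹ * ((g : G) * u * (g : G)⁻¹) * g = u by group] at h2
        exact mem_subgroupOf.mp ((mem_normalizer_iff.mp hg ⟨u, huM⟩).mpr (mem_subgroupOf.mpr hu))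
    exact mem_centralizer_iff.mpr fun y hy => Subtype.ext
      (mem_centralizer_iff.mp (hNM _ hgN g.2) (y : G) (mem_subgroupOf.mp hy))
  obtain ⟨Q, N₀, hN₀, hcompl⟩ := hnpc
  have hN₀O : ∀ x : ↥M, x ∈ N₀ → (x : G) ∈ O := fun x hx =>
    (Components.mem_pPrimeCore_subgroup_iff (Subgroup.Normal.isSubnormal (inferInstance : M.Normal)) x).mp
      (Solvable.Cores.le_pPrimeCore (by
        refine Nat.Coprime.symm (hp.out.coprime_iff_not_dvd.2 ?_)
        rw [← hcompl.index_eq_card]
        exact Q.not_dvd_index) hx)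
  obtain ⟨k, hk⟩ := IsPGroup.iff_card.1 Q.2
  have hpg : IsPGroup p (M.map mk) := by
    rintro ⟨_, y, hy, rfl⟩
    refine ⟨k, Subtype.ext ?_⟩
    show mk y ^ p ^ k = 1
    rw [← map_pow]
    refine (QuotientGroup.eq_one_iff _).mpr (hN₀O (⟨y, hy⟩ ^ p ^ k) ?_)
    refine (QuotientGroup.eq_one_iff _).1 ?_
    rw [QuotientGroup.mk_pow, ← hk, ← hcompl.symm.index_eq_card, Subgroup.index_eq_card]
    exact pow_card_eq_one'
  have hle : M ≤ Cfsg.pPrimePCore p G := fun x hx => by
    haveI : (M.map mk).Normal := (inferInstance : M.Normal).map mk (QuotientGroup.mk'_surjective O)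
    exact Solvable.Cores.le_pCore hpg ⟨x, hx, rfl⟩
  refine OddOrder.PLengthComplement.of_coprime_index ?_
  exact Nat.Coprime.symm (hp.out.coprime_iff_not_dvd.2 fun hd => P.not_dvd_index
    (hd.trans ((index_dvd_of_le hle).trans (index_dvd_of_le hPM))))

end CfsgLib.Blocks.InertiaTwo
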