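import Cfsg.Agent.Lib.Blocks.PCentralizer
import Cfsg.Agent.Lib.BrauerSuzuki.QuaternionFun
import Cfsg.Agent.Lib.BrauerSuzuki.HomocyclicMain
import Cfsg.Agent.Lib.Blocks.DefectTwoBound

/-!
# Twisting a function on a quotient by a faithful character of a central `p`-subgroup
-/

set_option autoImplicit false

namespace CfsgLib.Blocks.InertiaTwo

open Cfsg CfsgLib.Blocks CfsgLib.BrauerSuzuki
open scoped Classical ComplexConjugate

universe u

variable {E : Type u} [Group E] [Fintype E] {p : ℕ} {Z : Subgroup E} [Z.Normal]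

theorem conj_hom_mul (ω : ↥Z →* ℂˣ) (v : ↥Z) : (ω v : ℂ) * conj (ω v : ℂ) = 1 := by
  have hn : ‖(ω v : ℂ)‖ = 1 := Complex.norm_eq_one_of_pow_eq_one
    (by rw [← Units.val_pow_eq_pow_val, ← map_pow, pow_orderOf_eq_one, map_one, Units.val_one])
    (orderOf_pos v).ne'
  rw [Complex.mul_conj, Complex.normSq_eq_norm_sq, hn]
  simp

/-- Functions changing by different scalars under a permutation are orthogonal. -/
theorem sum_eq_zero_of_shift {ι : Type*} [Fintype ι] (τ : ι ≃ ι) {F χ : ι → ℂ} {a c : ℂ}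
    (ha : a * conj a = 1) (hac : c ≠ a) (hF : ∀ x, F (τ x) = a * F x) (hχ : ∀ x, χ (τ x) = c * χ x) :
    ∑ x, F x * conj (χ x) = 0 := by
  have h1 : ∑ x, F x * conj (χ x) = a * conj c * ∑ x, F x * conj (χ x) := by
    rw [Finset.mul_sum, ← Equiv.sum_comp τ]
    refine Finset.sum_congr rfl fun x _ => ?_
    rw [hF, hχ, map_mul]; ring
  by_contra h0
  refine hac ?_
  have h2 : a * conj c = 1 := (mul_eq_right₀ h0).mp h1.symm
  have h3 := congrArg conj h2
  rw [map_mul, Complex.conj_conj, map_one] at h3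
  calc c = a * conj a * c := by rw [ha, one_mul]
    _ = a := by rw [mul_assoc, h3, mul_one]

/-- `f` times `ω` of the `p`-part, supported where the `p`-part is in `Z`. -/
noncomputable def twist (p : ℕ) (ω : ↥Z →* ℂˣ) (f : E ⧸ Z → ℂ) (e : E) : ℂ :=
  if h : pPart p e ∈ Z then (ω ⟨pPart p e, h⟩ : ℂ) * f (QuotientGroup.mk' Z e) else 0

theorem pPart_central_mul (hp : p.Prime) (hZp : IsPGroup p ↥Z) (hZ : Z ≤ Subgroup.center E)
    {v : E} (hv : v ∈ Z) (e : E) : pPart p (v * e) = v * pPart p e := by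
  haveI := Fact.mk hp
  refine pPart_eq hp ?_
  obtain ⟨y, hy, hc, ⟨k, hk⟩, hreg⟩ := pPart_spec hp e
  have hvc : ∀ g, g * v = v * g := fun g => Subgroup.mem_center_iff.mp (hZ hv) g
  obtain ⟨j, hj⟩ := IsPGroup.iff_orderOf.mp hZp ⟨v, hv⟩
  rw [Subgroup.orderOf_mk] at hj
  refine ⟨y, by rw [mul_assoc, hy], Commute.mul_left (show v * y = y * v from (hvc y).symm) hc, ?_, hreg⟩
  have hd : (v * pPart p e) ^ p ^ (j + k) = 1 := by
    rw [(show Commute v (pPart p e) from (hvc _).symm).mul_pow,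
      orderOf_dvd_iff_pow_eq_one.mp (hj ▸ pow_dvd_pow p (Nat.le_add_right j k)),
      orderOf_dvd_iff_pow_eq_one.mp (hk ▸ pow_dvd_pow p (Nat.le_add_left k j)), one_mul]
  obtain ⟨i, -, hi⟩ := (Nat.dvd_prime_pow hp).mp (orderOf_dvd_of_pow_eq_one hd)
  exact ⟨i, hi⟩

theorem pPart_regular (hp : p.Prime) {s : E} (hs : ¬ p ∣ orderOf s) : pPart p s = 1 :=
  pPart_eq hp (isPPart_one_of_regular hs)

theorem singular_mk (hp : p.Prime) {e : E} (he : pPart p e ∉ Z) :
    p ∣ orderOf (QuotientGroup.mk' Z e) := by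
  by_contra hn
  obtain ⟨y, hy, hc, ⟨k, hk⟩, hreg⟩ := pPart_spec hp e
  have h1 : IsPPart p (QuotientGroup.mk' Z e) (QuotientGroup.mk' Z (pPart p e)) := by
    obtain ⟨j, -, hj⟩ := (Nat.dvd_prime_pow hp).mp
      (hk ▸ orderOf_map_dvd (QuotientGroup.mk' Z) (pPart p e))
    exact ⟨QuotientGroup.mk' Z y, by rw [← map_mul, hy], hc.map _, ⟨j, hj⟩,
      fun h => hreg (h.trans (orderOf_map_dvd _ y))⟩
  exact he ((QuotientGroup.eq_one_iff _).mp (isPPart_unique hp h1 (isPPart_one_of_regular hn)))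

variable (hp : p.Prime) (hZp : IsPGroup p ↥Z) (hZ : Z ≤ Subgroup.center E) (ω : ↥Z →* ℂˣ) {f : E ⧸ Z → ℂ}

include hp in
theorem twist_regular {s : E} (hs : ¬ p ∣ orderOf s) :
    twist p ω f s = f (QuotientGroup.mk' Z s) := by
  have h1 := pPart_regular hp hs
  rw [twist, dif_pos (h1 ▸ Z.one_mem),
    show (⟨pPart p s, h1 ▸ Z.one_mem⟩ : ↥Z) = 1 from Subtype.ext h1, map_one, Units.val_one, one_mul]

include hp hZp hZ in
theorem twist_mul {v : E} (hv : v ∈ Z) (e : E) :
    twist p ω f (v * e) = (ω ⟨v, hv⟩ : ℂ) * twist p ω f e := by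
  have hpp := pPart_central_mul hp hZp hZ hv e
  have hmk : QuotientGroup.mk' Z (v * e) = QuotientGroup.mk' Z e := by
    rw [map_mul, show QuotientGroup.mk' Z v = 1 from (QuotientGroup.eq_one_iff v).mpr hv, one_mul]
  by_cases h : pPart p e ∈ Z
  · have h' : pPart p (v * e) ∈ Z := hpp ▸ mul_mem hv h
    rw [twist, twist, dif_pos h, dif_pos h', hmk, ← mul_assoc, ← Units.val_mul, ← map_mul]
    exact congrArg (fun w : ↥Z => (ω w : ℂ) * _) (Subtype.ext hpp)
  · rw [twist, twist, dif_neg h, dif_neg, mul_zero]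
    rw [hpp]
    exact fun h' => h ((Subgroup.mul_mem_cancel_left Z hv).mp h')

include hp hZ in
theorem twist_isClassFunction (hf : IsClassFunction (E ⧸ Z) f) : IsClassFunction E (twist p ω f) := by
  intro g w
  have hpp : pPart p (w * g * w⁻¹) = w * pPart p g * w⁻¹ :=
    pPart_eq hp (isPPart_conj (pPart_spec hp g) w)
  by_cases h : pPart p g ∈ Z
  · have h' : pPart p (w * g * w⁻¹) ∈ Z := hpp ▸ Subgroup.Normal.conj_mem inferInstance _ h w
    rw [twist, twist, dif_pos h, dif_pos h', map_mul, map_mul, map_inv, hf]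
    congr 3
    refine Subtype.ext (hpp.trans ?_)
    rw [Subgroup.mem_center_iff.mp (hZ h) w, mul_inv_cancel_right]
  · rw [twist, twist, dif_neg h, dif_neg]
    rw [hpp]
    exact fun h' => h (by simpa [mul_assoc] using Subgroup.Normal.conj_mem inferInstance _ h' w⁻¹)

include hp in
theorem twist_mul_conj (hsing : ∀ q, p ∣ orderOf q → f q = 0) (e : E) :
    twist p ω f e * conj (twist p ω f e)
      = f (QuotientGroup.mk' Z e) * conj (f (QuotientGroup.mk' Z e)) := by
  by_cases h : pPart p e ∈ Z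
  · rw [twist, dif_pos h, map_mul, mul_mul_mul_comm, conj_hom_mul, one_mul]
  · rw [twist, dif_neg h, hsing _ (singular_mk hp h)]

include hp in
theorem classInner_twist [Fintype (E ⧸ Z)] (hsing : ∀ q, p ∣ orderOf q → f q = 0) :
    classInner (twist p ω f) (twist p ω f) = classInner f f := by
  rw [← CfsgLib.Char.classInner_comp_surjective (QuotientGroup.mk' Z) (QuotientGroup.mk'_surjective Z) f f]
  unfold Cfsg.classInner
  exact congrArg _ (Finset.sum_congr rfl fun e _ => twist_mul_conj hp ω hsing e)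

include hp hZp hZ in
theorem gc_twist (hf : IsGeneralizedCharacter (E ⧸ Z) f) (hsing : ∀ q, p ∣ orderOf q → f q = 0) :
    IsGeneralizedCharacter E (twist p ω f) := by
  letI : Fintype (E ⧸ Z) := Fintype.ofFinite _
  haveI := Fact.mk hp
  have hcl := twist_isClassFunction hp hZ ω (CfsgLib.Char.isGeneralizedCharacter_iff.1 hf).1
  refine CharDeep.Brauer.isGeneralizedCharacter_of_elementary hcl fun l hl H hH => ?_
  letI : Fintype ↥H := Fintype.ofFinite _
  have := CharDeep.PartHom.isNilpotent_of_isElementary hl hH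
  obtain ⟨i, c, hc, hcard⟩ :=
    Nat.exists_eq_pow_mul_and_not_dvd (Nat.card_pos (α := ↥H)).ne' p hp.ne_one
  have hco : Nat.Coprime c (p ^ i) :=
    Nat.Coprime.pow_right _ ((hp.coprime_iff_not_dvd.2 hc).symm)
  obtain ⟨e, he0, he1, hee⟩ := CharDeep.PartHom.exists_exponent hco
  obtain ⟨e', he0', he1', hee'⟩ := CharDeep.PartHom.exists_exponent hco.symm
  have hcard' : Nat.card ↥H = c * p ^ i := by rw [hcard, mul_comm]
  rw [← hcard'] at hee
  rw [← hcard] at hee'
  let φ := CharDeep.PartHom.powHom (G := ↥H) e hee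
  let π := CharDeep.PartHom.powHom (G := ↥H) e' hee'
  have hsum : ∀ x : ↥H, φ x * π x = x := fun x => by
    show x ^ e * x ^ e' = x
    rw [← pow_add]
    conv_rhs => rw [← pow_one x]
    rw [pow_eq_pow_iff_modEq]
    refine Nat.ModEq.of_dvd (orderOf_dvd_natCard x) ?_
    rw [hcard']
    exact (Nat.modEq_and_modEq_iff_modEq_mul hco).1
      ⟨by simpa using he0.add he1', by simpa using he1.add he0'⟩
  have hpp : ∀ x : ↥H, pPart p (x : E) = (φ x : E) := fun x => by
    obtain ⟨j, -, hj⟩ := (Nat.dvd_prime_pow hp).1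
      (CharDeep.PartHom.orderOf_pow_exponent_dvd hcard' he0 x)
    refine pPart_eq hp ⟨(π x : E), ?_, ?_,
      ⟨j, by rw [Subgroup.orderOf_coe]; exact hj⟩, fun h => hc ?_⟩
    · exact congrArg Subtype.val (hsum x)
    · exact congrArg Subtype.val ((Commute.refl x).pow_pow e e').eq
    · rw [Subgroup.orderOf_coe] at h
      exact h.trans (CharDeep.PartHom.orderOf_pow_exponent_dvd hcard he0' x)
  refine CfsgLib.Char.isGeneralizedCharacter_iff.2
    ⟨fun a b => hcl (a : E) (b : E), fun χ hχ => ?_⟩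
  by_cases hcase : ∀ v : ↥H, ∀ hv : (v : E) ∈ Z, ∀ x : ↥H, χ (v * x) = (ω ⟨v, hv⟩ : ℂ) * χ x
  · -- agreeing central characters
    let f' : ↥H → ℂ := fun x => f (QuotientGroup.mk' Z (x : E))
    have hg : IsGeneralizedCharacter ↥H f' := gc_comp hf ((QuotientGroup.mk' Z).comp H.subtype)
    have hg' : IsGeneralizedCharacter ↥H (χ ∘ π) := CfsgLib.Char.IsCharacter.isGeneralizedCharacter
      (CfsgLib.Char.IsCharacter.comp (CfsgLib.Char.IsIrrCharacter.isCharacter hχ) π)
    refine ⟨∑ η : IrrCharacter ↥H, coeff f' η * coeff (χ ∘ π) η, ?_⟩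
    rw [← classInner_eq_sum_coeff hg hg']
    unfold Cfsg.classInner
    refine congrArg _ (Finset.sum_congr rfl fun x _ => ?_)
    show twist p ω f (x : E) * conj (χ x) = f' x * conj (χ (π x))
    by_cases h : pPart p (x : E) ∈ Z
    · have h' : ((φ x : ↥H) : E) ∈ Z := hpp x ▸ h
      have hx : χ x = (ω ⟨_, h'⟩ : ℂ) * χ (π x) := by
        conv_lhs => rw [← hsum x]
        exact hcase _ h' _
      rw [twist, dif_pos h, hx, map_mul,
        show (⟨pPart p (x : E), h⟩ : ↥Z) = ⟨_, h'⟩ from Subtype.ext (hpp x), mul_mul_mul_comm,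
        conj_hom_mul, one_mul]
    · rw [twist, dif_neg h, zero_mul,
        show f' x = 0 from hsing _ (singular_mk hp h), zero_mul]
  · refine ⟨0, ?_⟩
    push Not at hcase
    obtain ⟨v, hv, x₀, hx₀⟩ := hcase
    have hvH : v ∈ Subgroup.center ↥H :=
      Subgroup.mem_center_iff.2 fun g => Subtype.ext (Subgroup.mem_center_iff.mp (hZ hv) (g : E))
    obtain ⟨c, hc', -⟩ := CfsgLib.CharDeep.CentralTrick.exists_scalar_center hχ hvH
    have hsc : ∀ x, χ (v * x) = c * χ x := fun x => by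
      rw [← Subgroup.mem_center_iff.mp hvH x]
      exact hc' x
    unfold Cfsg.classInner
    rw [Int.cast_zero, mul_eq_zero]
    right
    refine sum_eq_zero_of_shift (Equiv.mulLeft v) (conj_hom_mul ω ⟨(v : E), hv⟩) ?_
      (fun x => twist_mul hp hZp hZ ω hv (x : E)) hsc
    intro hce
    exact hx₀ (by rw [hsc, hce])

include hp hZp hZ in
/-- A constituent of the twist has central character `ω` on `Z`. -/
theorem scalar_of_inner_ne {ψ : IrrCharacter E}
    (hne : classInner (twist p ω f) (ψ : E → ℂ) ≠ 0) (v : ↥Z) (x : E) :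
    (ψ : E → ℂ) ((v : E) * x) = (ω v : ℂ) * (ψ : E → ℂ) x := by
  have hvZ := hZ v.2
  obtain ⟨c, hc', -⟩ := CfsgLib.CharDeep.CentralTrick.exists_scalar_center ψ.2 hvZ
  have hsc : ∀ x, (ψ : E → ℂ) ((v : E) * x) = c * (ψ : E → ℂ) x := fun x => by
    rw [← Subgroup.mem_center_iff.mp hvZ x]
    exact hc' x
  rw [hsc]
  congr 1
  by_contra hce
  refine hne ?_
  unfold Cfsg.classInner
  rw [sum_eq_zero_of_shift (Equiv.mulLeft (v : E)) (conj_hom_mul ω v) hce
    (fun e => twist_mul hp hZp hZ ω v.2 e) hsc, mul_zero]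

include hp hZp hZ in
/-- The inner product with a character of central character `ω`. -/
theorem classInner_twist_irr (hsing : ∀ q, p ∣ orderOf q → f q = 0) {ψ : IrrCharacter E}
    (hψ : ∀ (v : ↥Z) (x : E), (ψ : E → ℂ) ((v : E) * x) = (ω v : ℂ) * (ψ : E → ℂ) x) :
    classInner (twist p ω f) (ψ : E → ℂ) = (Nat.card ↥Z : ℂ) * (Nat.card E : ℂ)⁻¹ *
      ∑ s : E with IsPRegular p s, f (QuotientGroup.mk' Z s) * conj ((ψ : E → ℂ) s) := by
  unfold Cfsg.classInner
  rw [sum_eq_sum_prod hp hZp (DefectTwo.index_centralizer hZ) _ (fun g hg => by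
    rw [twist, dif_neg hg, zero_mul]), mul_assoc, mul_left_comm]
  congr 1
  rw [Finset.sum_congr rfl fun u _ => Finset.sum_congr rfl (g := fun s =>
    f (QuotientGroup.mk' Z s) * conj ((ψ : E → ℂ) s)) fun s hs => ?_, Finset.sum_const,
    Finset.card_univ, nsmul_eq_mul, Nat.card_eq_fintype_card]
  rw [twist_mul hp hZp hZ ω u.2, hψ u, twist_regular hp ω (Finset.mem_filter.1 hs).2, map_mul,
    mul_mul_mul_comm, conj_hom_mul, one_mul]

end CfsgLib.Blocks.InertiaTwo
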