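import Cfsg.Agent.Lib.Blocks.TIAbelianExceptional
import Cfsg.Agent.Lib.Blocks.InertiaTwo.Lift
import Cfsg.Agent.Lib.Char.GLTwoThreeCentralizer
import Mathlib.LinearAlgebra.Dual.Lemmas

/-!
# An abelian Sylow subgroup with automizer of order two and a nonsplit central extension

The principal block has one exceptional character `θ` besides the trivial one. A faithful twist of
`1 - aθ` to the extension is a generalized character of norm two whose constituents span, on regular
elements, a subspace of the span of `1` and `θ`; the class equation for involutions then shows that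
the involutions lie in the kernel of `θ`.
-/

set_option autoImplicit false

namespace CfsgLib.Blocks.InertiaTwo

open Cfsg CfsgLib.Blocks CfsgLib.BrauerSuzuki CfsgLib.Blocks.TIAbelian
open scoped Classical ComplexConjugate commutatorElement

universe u

/-- A family whose kernel lies in `W` lies in `W`. -/
theorem mem_of_kernel {R ι : Type*} [Fintype R] [Fintype ι] (W : Submodule ℂ (R → ℂ))
    (w : ι → R → ℂ) (h : ∀ t, (∑ i, conj (w i t) • w i) ∈ W) (i : ι) : w i ∈ W := by
  by_contra hi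
  obtain ⟨ℓ, hℓ, hW⟩ := Submodule.exists_dual_map_eq_bot_of_notMem hi inferInstance
  have hW' : ∀ x ∈ W, ℓ x = 0 := fun x hx => by
    have := hW ▸ Submodule.mem_map_of_mem (f := ℓ) hx
    simpa using this
  have h0 : ∀ t, ∑ j, conj (w j t) * ℓ (w j) = 0 := fun t => by
    have := hW' _ (h t)
    rw [map_sum] at this
    simpa only [map_smul, smul_eq_mul] using this
  have hℓsum : ∀ g : R → ℂ, ℓ g = ∑ t, g t * ℓ (Pi.single t 1) := fun g => by
    conv_lhs => rw [← Finset.univ_sum_single g]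
    rw [map_sum]
    refine Finset.sum_congr rfl fun t _ => ?_
    rw [← smul_eq_mul, ← map_smul, ← Pi.single_smul, smul_eq_mul, mul_one]
  have hz : ∑ j, conj (ℓ (w j)) * ℓ (w j) = 0 := by
    calc _ = ∑ t, conj (ℓ (Pi.single t 1)) * ∑ j, conj (w j t) * ℓ (w j) := by
          simp only [Finset.mul_sum]
          rw [Finset.sum_comm]
          refine Finset.sum_congr rfl fun j _ => ?_
          conv_lhs => arg 1; rw [hℓsum (w j), map_sum]
          rw [Finset.sum_mul]
          exact Finset.sum_congr rfl fun t _ => by rw [map_mul]; ring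
      _ = 0 := by simp only [h0, mul_zero, Finset.sum_const_zero]
  have hr : ∑ j, Complex.normSq (ℓ (w j)) = 0 := by
    apply Complex.ofReal_injective
    push_cast
    rw [← hz]
    exact Finset.sum_congr rfl fun j _ => Complex.normSq_eq_conj_mul_self
  exact hℓ (Complex.normSq_eq_zero.mp
    ((Finset.sum_eq_zero_iff_of_nonneg fun j _ => Complex.normSq_nonneg _).mp hr i (Finset.mem_univ i)))

section Exceptional

variable {G : Type*} [Group G] [Fintype G] {p : ℕ} [hp : Fact p.Prime] {P : Sylow p G}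

theorem exists_conj_singular {g : G} (hg : p ∣ orderOf g) :
    ∃ u : G, u * pEl p g * u⁻¹ ∈ (P : Subgroup G) ∧ u * pEl p g * u⁻¹ ≠ 1 ∧
      IsPPart p (u * g * u⁻¹) (u * pEl p g * u⁻¹) := by
  obtain ⟨u, hu⟩ := exists_conj_pEl P g
  refine ⟨u, hu, fun e => ?_, isPPart_conj (pEl_spec g) u⟩
  obtain ⟨y, hy, -, -, hr⟩ := pEl_spec (p := p) g
  rw [conj_eq_one_iff.mp e, one_mul] at hy
  exact hr (hy ▸ hg)

/-- The principal block for an automizer of order two. -/
theorem exceptional_two (h : FrobSylow P) (h2 : autCard P = 2) (hn : 9 ≤ Nat.card (P : Subgroup G))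
    {M : Ideal AlgInt} (hM : IsPModular p M) :
    ∃ (θ : IrrCharacter G) (a : ℤ), (a = 1 ∨ a = -1) ∧ θ ∈ principalBlock M G ∧ θ ≠ trivChar G ∧
      (a : ℂ) * (θ : G → ℂ) 1 ≠ -1 ∧ (∀ g, p ∣ orderOf g → (θ : G → ℂ) g = (a : ℂ)) ∧
      ∀ η ∈ principalBlock M G, ∃ u v : ℂ,
        ∀ g : G, ¬ p ∣ orderOf g → (η : G → ℂ) g = u + v * (θ : G → ℂ) g := by
  obtain ⟨X, Y, a, d, δ, ζ, hXY, -, ht, -, hYc, hδ, hXv, -, -, -, -, hnorm, -, hlast⟩ :=
    exceptional h (by omega) hM
  rw [h2] at hYc hnorm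
  push_cast at hnorm
  have hY4 : (4 : ℤ) ≤ (Y.card : ℤ) := by omega
  have hδ2 : δ ^ 2 = 1 := by rcases hδ with e | e <;> rw [e] <;> norm_num
  have ha1 : ∀ χ ∈ X, 1 ≤ a χ ^ 2 := fun χ hχ => by
    have := (hXv χ hχ).1
    have : 0 < a χ ^ 2 := by positivity
    omega
  have hd : d = 0 := by
    by_contra hd
    have h1 : 0 < d ^ 2 := by positivity
    have h2' : 1 ≤ ∑ χ ∈ X, a χ ^ 2 :=
      (ha1 _ ht).trans (Finset.single_le_sum (f := fun χ => a χ ^ 2) (fun χ _ => sq_nonneg (a χ)) ht)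
    nlinarith [sq_nonneg (d - δ)]
  subst hd
  have hsum : ∑ χ ∈ X, a χ ^ 2 = 2 := by nlinarith
  have hat : a (trivChar G) = 1 := by
    obtain ⟨x, hxP, hx1⟩ : ∃ x ∈ (P : Subgroup G), x ≠ 1 := by
      by_contra hno
      push Not at hno
      rw [(Subgroup.eq_bot_iff_forall _).mpr hno, Subgroup.card_bot] at hn
      omega
    obtain ⟨k, hk⟩ := IsPGroup.iff_orderOf.mp P.2 ⟨x, hxP⟩
    rw [Subgroup.orderOf_mk] at hk
    have := (hXv _ ht).2 x x ⟨1, mul_one x, Commute.one_right x, ⟨k, hk⟩,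
      by simp [hp.out.ne_one]⟩ hxP hx1
    rw [trivChar_apply] at this
    exact_mod_cast this.symm
  rw [← Finset.add_sum_erase _ _ ht, hat] at hsum
  have hcard : (X.erase (trivChar G)).card = 1 := by
    have h1 : ((X.erase (trivChar G)).card : ℤ) ≤ ∑ χ ∈ X.erase (trivChar G), a χ ^ 2 := by
      rw [Finset.card_eq_sum_ones, Nat.cast_sum]
      exact Finset.sum_le_sum fun χ hχ => by
        push_cast; exact ha1 χ (Finset.mem_erase.mp hχ).2
    rcases Nat.eq_zero_or_pos (X.erase (trivChar G)).card with h0 | h0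
    · rw [Finset.card_eq_zero] at h0
      rw [h0, Finset.sum_empty] at hsum
      norm_num at hsum
    · omega
  obtain ⟨θ, hθ⟩ := Finset.card_eq_one.mp hcard
  have hθ' : θ ≠ trivChar G ∧ θ ∈ X := Finset.mem_erase.mp (hθ ▸ Finset.mem_singleton_self θ)
  rw [hθ, Finset.sum_singleton] at hsum
  have haθ : a θ = 1 ∨ a θ = -1 := sq_eq_one_iff.mp (by omega)
  have hsplit : ∀ w : IrrCharacter G → ℂ, ∑ χ ∈ X, w χ = w (trivChar G) + w θ := fun w => by
    rw [← Finset.add_sum_erase _ _ ht, hθ, Finset.sum_singleton]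
  have hY : ∀ η ∈ Y, ∀ g : G, ¬ p ∣ orderOf g →
      (η : G → ℂ) g = (δ : ℂ) + (δ : ℂ) * a θ * (θ : G → ℂ) g := by
    intro η hη g hg
    have := hlast η hη g hg
    rw [hsplit, trivChar_apply, hat] at this
    have hδC : (δ : ℂ) ^ 2 = 1 := by exact_mod_cast hδ2
    push_cast at this
    linear_combination -(δ : ℂ) * this - (η : G → ℂ) g * hδC
  refine ⟨θ, a θ, haθ, (hXY θ).mpr (Or.inl hθ'.2), hθ'.1, fun e => ?_, fun g hg => ?_, fun η hη => ?_⟩
  · obtain ⟨η, hη⟩ : Y.Nonempty := Finset.card_pos.mp (by omega)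
    refine irr_one_ne_zero η ?_
    rw [hY η hη 1 (by simp [hp.out.ne_one]), mul_assoc, e]
    ring
  · obtain ⟨u, hu, hu1, hpp⟩ := exists_conj_singular (P := P) hg
    rw [← irr_conj_apply θ g u]
    exact (hXv θ hθ'.2).2 _ _ hpp hu hu1
  · rcases (hXY η).mp hη with h1 | h1
    · by_cases e : η = trivChar G
      · exact ⟨1, 0, fun g _ => by simp [e]⟩
      · have : η = θ := Finset.mem_singleton.mp (hθ ▸ Finset.mem_erase.mpr ⟨e, h1⟩)
        exact ⟨0, 1, fun g _ => by simp [this]⟩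
    · exact ⟨δ, δ * a θ, hY η h1⟩

end Exceptional

/-- The class sum identity for the products of two conjugates. -/
theorem sum_pairs {E : Type*} [Group E] [Fintype E] (χ : IrrCharacter E) (t : E) :
    ∑ g : E, ∑ k : E, (χ : E → ℂ) (g * t * g⁻¹ * (k * t * k⁻¹))
      = (Nat.card E : ℂ) ^ 2 * ((χ : E → ℂ) t ^ 2 / (χ : E → ℂ) 1) := by
  rw [Finset.sum_congr rfl fun g _ => CfsgLib.Char.IsIrrCharacter.sum_mul_conjugate χ.2 (g * t * g⁻¹) t]
  simp only [irr_conj_apply, Finset.sum_const, Finset.card_univ, nsmul_eq_mul]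
  rw [Nat.card_eq_fintype_card]
  ring

theorem arith {X Y c s₁ s₂ r₁ r₂ : ℂ} (hX0 : X ≠ 0) (hX1 : X ≠ 1)
    (hs₁ : s₁ = (1 - X) / 2 + c * ((1 + X) / 2)) (hs₂ : s₂ = (1 - X) / 2 - c * ((1 + X) / 2))
    (hr₁ : r₁ = (1 - Y) / 2 + c * ((1 + Y) / 2)) (hr₂ : r₂ = (1 - Y) / 2 - c * ((1 + Y) / 2))
    (h1 : s₁ ≠ 0) (h2 : s₂ ≠ 0) (heq : r₁ ^ 2 / s₁ + r₂ ^ 2 / s₂ = 1 - Y ^ 2 / X)
    (hc : c ^ 2 ≠ 1) : X = Y := by
  field_simp at heq
  subst hs₁ hs₂ hr₁ hr₂
  have : (c ^ 2 - 1) * ((X - 1) * (X - Y) ^ 2) = 0 := by linear_combination 4 * heq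
  rcases mul_eq_zero.mp this with e | e
  · exact absurd (sub_eq_zero.mp e) hc
  · rcases mul_eq_zero.mp e with e | e
    · exact absurd (sub_eq_zero.mp e) hX1
    · exact sub_eq_zero.mp (pow_eq_zero_iff two_ne_zero |>.mp e)

variable {E : Type u} [Group E] [Fintype E] {p : ℕ} [hp : Fact p.Prime] {Z : Subgroup E} [Z.Normal]

theorem pPart_inv {e : E} : pPart p e⁻¹ = (pPart p e)⁻¹ := by
  obtain ⟨y, hy, hc, ⟨k, hk⟩, hr⟩ := pPart_spec hp.out e
  exact pPart_eq hp.out ⟨y⁻¹, by rw [← mul_inv_rev, ← hc.eq, hy], hc.inv_inv,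
    ⟨k, by rw [orderOf_inv, hk]⟩, by rwa [orderOf_inv]⟩

/-- The main configuration. -/
theorem main (hodd : p ≠ 2) (hZ : Z ≤ Subgroup.center E) (hZc : Nat.card ↥Z = p)
    (hnon : ∃ a b : E, ⁅a, b⁆ ∈ Z ∧ ⁅a, b⁆ ≠ 1) [Fintype (E ⧸ Z)] {P : Sylow p (E ⧸ Z)}
    (h : FrobSylow P) (h2 : autCard P = 2) (hn : 9 ≤ Nat.card (P : Subgroup (E ⧸ Z))) :
    (∃ μ : E ⧸ Z →* ℂˣ, μ ≠ 1 ∧ ∀ c ∈ Subgroup.centralizer ((P : Subgroup (E ⧸ Z)) : Set (E ⧸ Z)), μ c = 1) ∨
      ∀ t : E ⧸ Z, t ^ 2 = 1 → ∃ K : Subgroup (E ⧸ Z), K.Normal ∧ t ∈ K ∧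
        (P : Subgroup (E ⧸ Z)) ⊓ K = ⊥ := by
  obtain ⟨M, hM⟩ := CfsgLib.Blocks.exists_isPModular hp.out
  obtain ⟨θ, a, ha, hθB, hθne, haX, hsing, hspan⟩ := exceptional_two h h2 hn hM
  obtain ⟨x₀, hx₀P, hx₀⟩ : ∃ x ∈ (P : Subgroup (E ⧸ Z)), x ≠ 1 := by
    by_contra hno
    push Not at hno
    rw [(Subgroup.eq_bot_iff_forall _).mpr hno, Subgroup.card_bot] at hn
    omega
  have hpx : ∀ x ∈ (P : Subgroup (E ⧸ Z)), x ≠ 1 → p ∣ orderOf x := fun x hx hx1 => by
    obtain ⟨k, hk⟩ := IsPGroup.iff_orderOf.mp P.2 ⟨x, hx⟩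
    rw [Subgroup.orderOf_mk] at hk
    exact hk ▸ dvd_pow_self p fun h0 => hx1 (orderOf_eq_one_iff.mp (by rw [hk, h0, pow_zero]))
  have haa : (a : ℂ) * a = 1 := by rcases ha with e | e <;> simp [e]
  by_cases hlin : (θ : E ⧸ Z → ℂ) 1 = 1
  · -- linear
    left
    obtain ⟨μ, hμ⟩ := CfsgLib.Char.exists_hom_of_apply_one_eq_one
      (CfsgLib.Char.IsIrrCharacter.isCharacter θ.2) hlin
    have ha1 : a = 1 := ha.resolve_right fun e => haX (by
      rw [e, hlin]; simp)
    have hμ1 : ∀ g, p ∣ orderOf g → μ g = 1 := fun g hg => by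
      have := hsing g hg
      rw [ha1, hμ] at this
      exact Units.ext (by simpa using this)
    refine ⟨μ, fun e => hθne (Subtype.ext ?_), fun c hc => ?_⟩
    · rw [hμ, e]
      rfl
    · by_cases hpc : p ∣ orderOf c
      · exact hμ1 c hpc
      · have hxc : Commute x₀ c := Subgroup.mem_centralizer_iff.mp hc x₀ hx₀P
        obtain ⟨k, hk⟩ := IsPGroup.iff_orderOf.mp P.2 ⟨x₀, hx₀P⟩
        rw [Subgroup.orderOf_mk] at hk
        have hpp := isPPart_mul hxc hk hpc
        have hs : p ∣ orderOf (x₀ * c) := by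
          by_contra hr
          exact hx₀ (isPPart_unique hp.out hpp (isPPart_one_of_regular hr))
        have := hμ1 _ hs
        rw [map_mul, hμ1 x₀ (hpx x₀ hx₀P hx₀), one_mul] at this
        exact this
  · right
    intro t ht
    -- the kernel of `θ`
    refine ⟨irrKer θ, irrKer_normal θ, ?_, ?_⟩
    swap
    · rw [Subgroup.eq_bot_iff_forall]
      rintro x ⟨hxP, hxK⟩
      by_contra hx1
      have e : (θ : E ⧸ Z → ℂ) x = (θ : E ⧸ Z → ℂ) 1 := hxK
      rw [hsing x (hpx x hxP hx1), irr_one_eq] at e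
      have hd : (charDegree (θ : E ⧸ Z → ℂ) : ℤ) = a := by exact_mod_cast e.symm
      have := charDegree_pos θ
      refine hlin ?_
      rw [irr_one_eq]
      rcases ha with e' | e' <;> rw [e'] at hd
      · exact_mod_cast hd
      · omega
    have hθ1 : ((θ : E ⧸ Z → ℂ) 1) ^ 2 ≠ 1 := fun e => by
      rw [irr_one_eq] at e
      refine hlin ?_
      rw [irr_one_eq]
      have e' : charDegree (θ : E ⧸ Z → ℂ) ^ 2 = 1 := by exact_mod_cast e
      exact_mod_cast Nat.pow_left_injective two_ne_zero (e'.trans (one_pow 2).symm)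
    show (θ : E ⧸ Z → ℂ) t = (θ : E ⧸ Z → ℂ) 1
    -- the twist
    obtain ⟨b₁, b₂, hbZ, hb1⟩ := hnon
    have hZp : IsPGroup p ↥Z := IsPGroup.of_card (n := 1) (by rw [hZc, pow_one])
    letI : CommGroup ↥Z :=
      { (inferInstance : Group ↥Z) with
        mul_comm := fun u v => Subtype.ext (Subgroup.mem_center_iff.mp (hZ v.2) u) }
    obtain ⟨ω, hω⟩ := CommGroup.exists_apply_ne_one_of_hasEnoughRootsOfUnity ↥Z ℂ
      (a := (⟨_, hbZ⟩ : ↥Z)) (fun e => hb1 (congrArg Subtype.val e))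
    let f : E ⧸ Z → ℂ := fun q => 1 - (a : ℂ) * (θ : E ⧸ Z → ℂ) q
    have hf0 : ∀ q, p ∣ orderOf q → f q = 0 := fun q hq => by
      show 1 - (a : ℂ) * (θ : E ⧸ Z → ℂ) q = 0
      rw [hsing q hq, haa, sub_self]
    have hfgc : IsGeneralizedCharacter (E ⧸ Z) f := by
      rcases ha with e | e
      · rw [show f = (fun _ => (1 : ℂ)) - (θ : E ⧸ Z → ℂ) by funext q; simp [f, e]]
        exact gc_sub gc_one (CfsgLib.Char.IsCharacter.isGeneralizedCharacter
          (CfsgLib.Char.IsIrrCharacter.isCharacter θ.2))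
      · rw [show f = (fun _ => (1 : ℂ)) + (θ : E ⧸ Z → ℂ) by funext q; simp [f, e]]
        exact gc_add gc_one (CfsgLib.Char.IsCharacter.isGeneralizedCharacter
          (CfsgLib.Char.IsIrrCharacter.isCharacter θ.2))
    have hone : classInner (fun _ : E ⧸ Z => (1 : ℂ)) (fun _ => 1) = 1 :=
      CfsgLib.Char.classInner_irr_self (trivChar (E ⧸ Z)).2
    have hθθ : classInner (θ : E ⧸ Z → ℂ) (θ : E ⧸ Z → ℂ) = 1 := CfsgLib.Char.classInner_irr_self θ.2
    have hθ1' : classInner (θ : E ⧸ Z → ℂ) (fun _ => 1) = 0 := CfsgLib.Char.classInner_irr_ne θ.2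
      (trivChar (E ⧸ Z)).2 fun e => hθne (Subtype.ext e)
    have h1θ : classInner (fun _ : E ⧸ Z => (1 : ℂ)) (θ : E ⧸ Z → ℂ) = 0 := CfsgLib.Char.classInner_irr_ne
      (trivChar (E ⧸ Z)).2 θ.2 fun e => hθne (Subtype.ext e.symm)
    have hlinL : ∀ g : E ⧸ Z → ℂ,
        classInner f g = classInner (fun _ => (1 : ℂ)) g - (a : ℂ) * classInner (θ : E ⧸ Z → ℂ) g := fun g => by
      unfold Cfsg.classInner
      rw [mul_left_comm, Finset.mul_sum _ _ (a : ℂ), ← mul_sub, ← Finset.sum_sub_distrib]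
      exact congrArg _ (Finset.sum_congr rfl fun q _ => by simp only [f]; ring)
    have hf1 : classInner f (fun _ => 1) = 1 := by rw [hlinL, hone, hθ1', mul_zero, sub_zero]
    have hfθ : classInner f (θ : E ⧸ Z → ℂ) = -(a : ℂ) := by rw [hlinL, h1θ, hθθ]; ring
    have hff : classInner f f = 2 := by
      have : classInner f f = classInner f (fun _ => 1) - (a : ℂ) * classInner f (θ : E ⧸ Z → ℂ) := by
        unfold Cfsg.classInner
        rw [mul_left_comm, Finset.mul_sum _ _ (a : ℂ), ← mul_sub, ← Finset.sum_sub_distrib]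
        exact congrArg _ (Finset.sum_congr rfl fun q _ => by
          simp only [f, map_sub, map_one, map_mul, map_intCast]; ring)
      rw [this, hf1, hfθ]
      linear_combination haa
    set F := twist p ω f with hF
    have hFgc : IsGeneralizedCharacter E F := gc_twist hp.out hZp hZ ω hfgc hf0
    have hnorm : ∑ χ, coeff F χ * coeff F χ = 2 := by
      have e := classInner_eq_sum_coeff hFgc hFgc
      rw [hF, classInner_twist hp.out ω hf0, hff] at e
      exact_mod_cast e.symm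
    obtain ⟨ψ₁, ψ₂, hne, he₁, he₂, hz⟩ := CfsgLib.Char.exists_two _ hnorm
    -- the two inflated characters
    set θE := inflate Z θ with hθE
    set trE := trivChar E with htrE
    have hC := DefectTwo.index_centralizer (p := p) hZ
    have hinfl : ∀ η : IrrCharacter (E ⧸ Z),
        η ∈ principalBlock M (E ⧸ Z) ↔ inflate Z η ∈ principalBlock M E := fun η =>
      sameBlock_inflate_iff hM hZp hC (trivChar (E ⧸ Z)) η
    obtain ⟨z, hz0⟩ : ∃ z : ↥Z, z ≠ 1 := ⟨⟨_, hbZ⟩, fun e => hb1 (congrArg Subtype.val e)⟩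
    have hzord : orderOf (z : E) = p := by
      rw [Subgroup.orderOf_coe]
      refine (hp.out.eq_one_or_self_of_dvd _ (hZc ▸ orderOf_dvd_natCard z)).resolve_left
        fun e => hz0 (orderOf_eq_one_iff.mp e)
    have hZz : Z = Subgroup.zpowers (z : E) :=
      (Subgroup.eq_of_le_of_card_ge (Subgroup.zpowers_le.mpr z.2)
        (by rw [Nat.card_zpowers, hzord, hZc])).symm
    have key : ∀ ψ : IrrCharacter E, (coeff F ψ = 1 ∨ coeff F ψ = -1) →
        (ψ : E → ℂ) 1 ≠ 1 ∧ ∃ c : ℂ, ∀ s : E, ¬ p ∣ orderOf s →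
          (coeff F ψ : ℂ) * (ψ : E → ℂ) s = (1 - (a : ℂ) * (θ : E ⧸ Z → ℂ) (QuotientGroup.mk' Z s)) / 2
            + c * ((1 + (a : ℂ) * (θ : E ⧸ Z → ℂ) (QuotientGroup.mk' Z s)) / 2) := by
      intro ψ hψe
      set e : ℂ := (coeff F ψ : ℂ) with he
      have hee : e * e = 1 := by rcases hψe with e' | e' <;> simp [he, e']
      have hinn : classInner F (ψ : E → ℂ) = e := (cast_coeff hFgc ψ).symm
      have hsc := scalar_of_inner_ne hp.out hZp hZ ω (ψ := ψ) (f := f)
        (by rw [← hF, hinn]; intro e0; rw [e0, mul_zero] at hee; exact zero_ne_one hee)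
      have hval := classInner_twist_irr hp.out hZp hZ ω hf0 hsc
      rw [← hF, hinn] at hval
      constructor
      · intro h1
        obtain ⟨μ, hμ⟩ := CfsgLib.Char.exists_hom_of_apply_one_eq_one
          (CfsgLib.Char.IsIrrCharacter.isCharacter ψ.2) h1
        have hc := hsc ⟨_, hbZ⟩ 1
        rw [mul_one, hμ] at hc
        simp only at hc
        rw [show μ ⁅b₁, b₂⁆ = 1 by
          rw [map_commutatorElement, commutatorElement_eq_one_iff_mul_comm, mul_comm],
          map_one, Units.val_one, mul_one] at hc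
        exact hω (Units.ext hc.symm)
      have hψB : ψ ∈ principalBlock M E := by
        by_contra hn'
        have h1 := IsPBlock.regInner_eq_zero hM isPBlock_principalBlock
          (trivChar_mem_principalBlock hM) hn'
        have h3 := IsPBlock.regInner_eq_zero hM isPBlock_principalBlock ((hinfl θ).mp hθB) hn'
        rw [regInner, mul_eq_zero] at h1 h3
        have hne0 : (pPartCard p E : ℂ) * (Nat.card E : ℂ)⁻¹ ≠ 0 :=
          mul_ne_zero (pPartCard_ne_zero hM.1) (inv_ne_zero CfsgLib.Char.card_ne_zero)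
        have e0 : e = 0 := by
          rw [hval, mul_eq_zero]
          right
          calc ∑ s : E with IsPRegular p s, f (QuotientGroup.mk' Z s) * conj ((ψ : E → ℂ) s)
              = ∑ s : E with IsPRegular p s, (trE : E → ℂ) s * (ψ : E → ℂ) s⁻¹
                - (a : ℂ) * ∑ s : E with IsPRegular p s, (θE : E → ℂ) s * (ψ : E → ℂ) s⁻¹ := by
                rw [Finset.mul_sum, ← Finset.sum_sub_distrib]
                refine Finset.sum_congr rfl fun s _ => ?_
                rw [conj_irr, htrE, trivChar_apply, hθE, inflate_apply]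
                simp only [f]; ring
            _ = 0 := by rw [h1.resolve_left hne0, h3.resolve_left hne0, mul_zero, sub_zero]
        rw [e0, mul_zero] at hee
        exact zero_ne_one hee
      -- the span at regular elements
      let R := {s : E // ¬ p ∣ orderOf s}
      let o : R → ℂ := fun _ => 1
      let w : R → ℂ := fun s => (θ : E ⧸ Z → ℂ) (QuotientGroup.mk' Z (s : E))
      let W : Submodule ℂ (R → ℂ) := Submodule.span ℂ {o, w}
      have hmem : ∀ η ∈ principalBlock M (E ⧸ Z),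
          (fun s : R => (η : E ⧸ Z → ℂ) (QuotientGroup.mk' Z (s : E))) ∈ W := by
        intro η hη
        obtain ⟨u, v, huv⟩ := hspan η hη
        exact Submodule.mem_span_pair.mpr ⟨u, v, funext fun s => by
          simp only [Pi.add_apply, Pi.smul_apply, smul_eq_mul, o, w, mul_one]
          exact (huv _ (regular_mk s.2)).symm⟩
      have hψW : (fun s : R => (ψ : E → ℂ) s) ∈ W := by
        refine mem_of_kernel W
          (fun (χ : {χ : IrrCharacter E // χ ∈ principalBlock M E}) (s : R) => (χ.1 : E → ℂ) s)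
          (fun t => ?_) ⟨ψ, hψB⟩
        have e2 : (∑ χ : {χ : IrrCharacter E // χ ∈ principalBlock M E},
              conj ((χ.1 : E → ℂ) t) • fun s : R => (χ.1 : E → ℂ) s)
            = ∑ η : IrrCharacter (E ⧸ Z), ((p : ℂ) * blockInd (principalBlock M (E ⧸ Z)) η *
              (η : E ⧸ Z → ℂ) (QuotientGroup.mk' Z (t : E))⁻¹) •
                fun s : R => (η : E ⧸ Z → ℂ) (QuotientGroup.mk' Z (s : E)) := by
          funext s
          have hk := DefectTwo.blockKernel_eq hM (hZ z.2) hzord hZz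
            (isPBlock_principalBlock (G := E)) hinfl s.2 t.2
          rw [blockKernel, Finset.mul_sum] at hk
          simp only [Finset.sum_apply, Pi.smul_apply, smul_eq_mul]
          rw [Finset.sum_congr rfl (g := fun η : IrrCharacter (E ⧸ Z) =>
            (p : ℂ) * (blockInd (principalBlock M (E ⧸ Z)) η *
            ((η : E ⧸ Z → ℂ) (QuotientGroup.mk' Z (t : E))⁻¹ *
              (η : E ⧸ Z → ℂ) (QuotientGroup.mk' Z (s : E))))) (s₂ := Finset.univ)
            (s₁ := (Finset.univ : Finset (IrrCharacter (E ⧸ Z)))) fun η _ => by ring, ← hk]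
          simp only [blockInd, ite_mul, one_mul, zero_mul, Finset.sum_ite, Finset.sum_const_zero, add_zero]
          rw [Finset.sum_subtype (Finset.univ.filter fun χ => χ ∈ principalBlock M E)
            (p := fun χ => χ ∈ principalBlock M E) (fun χ => by simp)]
          exact Finset.sum_congr rfl fun χ _ => by rw [conj_irr]
        rw [e2]
        refine Submodule.sum_mem _ fun η _ => ?_
        by_cases hη : η ∈ principalBlock M (E ⧸ Z)
        · exact Submodule.smul_mem _ _ (hmem η hη)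
        · rw [blockInd_of_notMem hη, mul_zero, zero_mul, zero_smul]
          exact Submodule.zero_mem _
      obtain ⟨u, v, huv⟩ := Submodule.mem_span_pair.mp hψW
      have hψv : ∀ s : E, ¬ p ∣ orderOf s →
          (ψ : E → ℂ) s = u + v * (θ : E ⧸ Z → ℂ) (QuotientGroup.mk' Z s) := fun s hs => by
        have := congrFun huv ⟨s, hs⟩
        simp only [Pi.add_apply, Pi.smul_apply, smul_eq_mul, o, w, mul_one] at this
        exact this.symm
      have hpush : ∀ g : E ⧸ Z → ℂ, (∀ q, p ∣ orderOf q → g q = 0) →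
          ∑ s : E with IsPRegular p s, g (QuotientGroup.mk' Z s) = ∑ q, g q := fun g hg =>
        DefectTwo.sum_regular_mk hp.out hZp hZ g hg
      have hrel : e = conj u - (a : ℂ) * conj v := by
        rw [hval, Finset.sum_congr rfl (g := fun s => conj u * (f (QuotientGroup.mk' Z s) * conj 1)
          + conj v * (f (QuotientGroup.mk' Z s) * conj ((θ : E ⧸ Z → ℂ) (QuotientGroup.mk' Z s)))) fun s hs => by
            rw [hψv s (Finset.mem_filter.mp hs).2, map_add, map_mul, map_one]; ring,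
          Finset.sum_add_distrib, ← Finset.mul_sum, ← Finset.mul_sum,
          hpush (fun q => f q * conj 1) (fun q hq => by simp [hf0 q hq]),
          hpush (fun q => f q * conj ((θ : E ⧸ Z → ℂ) q)) (fun q hq => by simp [hf0 q hq]),
          DefectTwo.card_eq_mul hZc, hZc]
        have e1 := hf1
        have e2 := hfθ
        unfold Cfsg.classInner at e1 e2
        have hp0 : (p : ℂ) ≠ 0 := Nat.cast_ne_zero.mpr hp.out.ne_zero
        push_cast
        rw [mul_inv]
        calc _ = conj u * ((Nat.card (E ⧸ Z) : ℂ)⁻¹ * ∑ q, f q * conj ((fun _ => (1 : ℂ)) q))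
              + conj v * ((Nat.card (E ⧸ Z) : ℂ)⁻¹ * ∑ q, f q * conj ((θ : E ⧸ Z → ℂ) q)) := by
              field_simp; simp
          _ = _ := by rw [e1, e2]; ring
      have hrel' : e = u - (a : ℂ) * v := by
        have := congrArg conj hrel
        rwa [he, map_intCast, map_sub, map_mul, map_intCast, Complex.conj_conj, Complex.conj_conj,
          ← he] at this
      refine ⟨e * (u + (a : ℂ) * v), fun s hs => ?_⟩
      rw [hψv s hs]
      set T := (θ : E ⧸ Z → ℂ) (QuotientGroup.mk' Z s)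
      linear_combination (-(e * v) * T) * haa + (1 - (a : ℂ) * T) / 2 * hee
        - e * (1 - (a : ℂ) * T) / 2 * hrel'
    obtain ⟨hd₁, c₁, hc₁⟩ := key ψ₁ he₁
    obtain ⟨hd₂, c₂, hc₂⟩ := key ψ₂ he₂
    set e₁ : ℂ := (coeff F ψ₁ : ℂ) with he1d
    set e₂ : ℂ := (coeff F ψ₂ : ℂ) with he2d
    have hee₁ : e₁ * e₁ = 1 := by rcases he₁ with e' | e' <;> simp [he1d, e']
    have hee₂ : e₂ * e₂ = 1 := by rcases he₂ with e' | e' <;> simp [he2d, e']
    have hexp : ∀ g : E, F g = e₁ * (ψ₁ : E → ℂ) g + e₂ * (ψ₂ : E → ℂ) g := fun g => by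
      rw [eq_sum_coeff hFgc g, Finset.sum_eq_add ψ₁ ψ₂ hne
        (fun χ _ hχ => by rw [hz χ hχ.1 hχ.2, Int.cast_zero, zero_mul])
        (fun h' => absurd (Finset.mem_univ _) h') (fun h' => absurd (Finset.mem_univ _) h')]
    set X : ℂ := (a : ℂ) * (θ : E ⧸ Z → ℂ) 1 with hXdef
    have hXX : X ^ 2 = (θ : E ⧸ Z → ℂ) 1 ^ 2 := by rw [hXdef]; linear_combination (θ : E ⧸ Z → ℂ) 1 ^ 2 * haa
    have hX1 : X ≠ 1 := fun e => hθ1 (by rw [← hXX, e, one_pow])
    have hXm : 1 + X ≠ 0 := fun e => haX (by linear_combination e)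
    have hX0 : X ≠ 0 := mul_ne_zero (fun e => by rw [e, mul_zero] at haa; exact zero_ne_one haa)
      (irr_one_ne_zero θ)
    have hone' : ¬ p ∣ orderOf (1 : E) := by rw [orderOf_one]; exact hp.out.not_dvd_one
    have hc12 : c₂ = -c₁ := by
      have e0 := hexp 1
      rw [hF, twist_regular hp.out ω hone', hc₁ 1 hone', hc₂ 1 hone'] at e0
      simp only [f, map_one, ← hXdef] at e0
      have : (c₁ + c₂) * (1 + X) = 0 := by linear_combination -2 * e0
      linear_combination (mul_eq_zero.mp this).resolve_right hXm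
    -- the involution
    obtain ⟨w, rfl⟩ := QuotientGroup.mk'_surjective Z t
    set te := w ^ p with hte
    have hwZ : w ^ 2 ∈ Z := (QuotientGroup.eq_one_iff _).mp (by rwa [← map_pow] at ht)
    have hte2 : te ^ 2 = 1 := by
      rw [hte, ← pow_mul, mul_comm, pow_mul]
      have := congrArg Subtype.val (pow_card_eq_one' (x := (⟨w ^ 2, hwZ⟩ : ↥Z)))
      rwa [hZc] at this
    have hmkte : QuotientGroup.mk' Z te = QuotientGroup.mk' Z w := by
      rw [hte, map_pow]
      obtain ⟨k, hk⟩ := hp.out.odd_of_ne_two hodd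
      rw [hk, pow_succ, pow_mul, ht, one_pow, one_mul]
    have hteR : ¬ p ∣ orderOf te := fun hd => hodd
      ((Nat.prime_dvd_prime_iff_eq hp.out Nat.prime_two).mp (hd.trans (orderOf_dvd_of_pow_eq_one hte2)))
    set Y : ℂ := (a : ℂ) * (θ : E ⧸ Z → ℂ) (QuotientGroup.mk' Z te) with hYdef
    rw [← hmkte]
    suffices hXY : X = Y by
      rw [hXdef, hYdef] at hXY
      exact (mul_left_cancel₀ (fun e => by rw [e, mul_zero] at haa; exact zero_ne_one haa) hXY).symm
    have hFab : ∀ g k : E, F (g * te * g⁻¹ * (k * te * k⁻¹))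
        = f (QuotientGroup.mk' Z (g * te * g⁻¹ * (k * te * k⁻¹))) := by
      intro g k
      set A := g * te * g⁻¹ with hA
      set B := k * te * k⁻¹ with hB
      have hA2 : A * A = 1 := by
        rw [hA, show g * te * g⁻¹ * (g * te * g⁻¹) = g * te ^ 2 * g⁻¹ by simp [sq, mul_assoc],
          hte2, mul_one, mul_inv_cancel]
      have hB2 : B * B = 1 := by
        rw [hB, show k * te * k⁻¹ * (k * te * k⁻¹) = k * te ^ 2 * k⁻¹ by simp [sq, mul_assoc],
          hte2, mul_one, mul_inv_cancel]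
      rw [hF, twist]
      by_cases hv : pPart p (A * B) ∈ Z
      · have hconj : A * (A * B) * A⁻¹ = (A * B)⁻¹ := by
          rw [mul_inv_rev A B, inv_eq_of_mul_eq_one_right hA2, inv_eq_of_mul_eq_one_right hB2,
            ← mul_assoc A A, hA2, one_mul]
        have e1 : pPart p (A * B)⁻¹ = pPart p (A * B) := by
          rw [← hconj, pPart_eq hp.out (isPPart_conj (pPart_spec hp.out (A * B)) A),
            Subgroup.mem_center_iff.mp (hZ hv) A, mul_inv_cancel_right]
        rw [pPart_inv] at e1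
        have hv1 : pPart p (A * B) = 1 := by
          obtain ⟨-, -, -, ⟨k', hk'⟩, -⟩ := pPart_spec hp.out (A * B)
          refine orderOf_eq_one_iff.mp (Nat.eq_one_of_dvd_coprimes (a := 2) (b := p ^ k') ?_
            (orderOf_dvd_of_pow_eq_one (by rw [sq]; exact inv_eq_iff_mul_eq_one.mp e1)) (hk' ▸ dvd_rfl))
          exact Nat.Coprime.pow_right _ ((Nat.coprime_primes Nat.prime_two hp.out).mpr (Ne.symm hodd))
        rw [dif_pos hv, show (⟨_, hv⟩ : ↥Z) = 1 from Subtype.ext hv1, map_one, Units.val_one, one_mul]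
      · rw [dif_neg hv, hf0 _ (singular_mk hp.out hv)]
    have hpairs : e₁ * ((ψ₁ : E → ℂ) te ^ 2 / (ψ₁ : E → ℂ) 1)
        + e₂ * ((ψ₂ : E → ℂ) te ^ 2 / (ψ₂ : E → ℂ) 1) = 1 - Y ^ 2 / X := by
      have e0 : ∑ g : E, ∑ k : E, F (g * te * g⁻¹ * (k * te * k⁻¹))
          = ∑ g : E, ∑ k : E, ((trE : E → ℂ) (g * te * g⁻¹ * (k * te * k⁻¹))
            - (a : ℂ) * (θE : E → ℂ) (g * te * g⁻¹ * (k * te * k⁻¹))) :=
        Finset.sum_congr rfl fun g _ => Finset.sum_congr rfl fun k _ => by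
          rw [hFab, htrE, trivChar_apply, hθE, inflate_apply]
      simp only [hexp, Finset.sum_add_distrib, Finset.sum_sub_distrib, ← Finset.mul_sum, sum_pairs] at e0
      rw [htrE, trivChar_apply, trivChar_apply, hθE, inflate_apply, inflate_apply, map_one,
        one_pow, div_one] at e0
      apply mul_left_cancel₀ (pow_ne_zero 2 (CfsgLib.Char.card_ne_zero (G := E)))
      rw [show Y ^ 2 / X = (a : ℂ) * ((θ : E ⧸ Z → ℂ) (QuotientGroup.mk' Z te) ^ 2 / (θ : E ⧸ Z → ℂ) 1) by
        rw [hYdef, hXdef, mul_pow, sq (a : ℂ), mul_assoc,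
          mul_div_mul_left _ _ (fun e => by rw [e, mul_zero] at haa; exact zero_ne_one haa),
          mul_div_assoc]]
      linear_combination e0
    have hs₁ : e₁ * (ψ₁ : E → ℂ) 1 = (1 - X) / 2 + c₁ * ((1 + X) / 2) := by
      rw [hc₁ 1 hone', map_one]
    have hs₂ : e₂ * (ψ₂ : E → ℂ) 1 = (1 - X) / 2 - c₁ * ((1 + X) / 2) := by
      rw [hc₂ 1 hone', map_one, hc12]; ring
    have hr₂ : e₂ * (ψ₂ : E → ℂ) te = (1 - Y) / 2 - c₁ * ((1 + Y) / 2) := by
      rw [hc₂ te hteR, hc12]; ring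
    have hnz : ∀ (e : ℂ) (ψ : IrrCharacter E), e * e = 1 → e * (ψ : E → ℂ) 1 ≠ 0 := fun e ψ he =>
      mul_ne_zero (fun h0 => by rw [h0, mul_zero] at he; exact zero_ne_one he) (irr_one_ne_zero ψ)
    have hdeg : ∀ (e : ℂ) (ψ : IrrCharacter E), e * e = 1 → e * (ψ : E → ℂ) 1 = 1 →
        (ψ : E → ℂ) 1 = 1 := by
      intro e ψ he h1
      have h2' : ((ψ : E → ℂ) 1) ^ 2 = 1 := by
        linear_combination (e * (ψ : E → ℂ) 1 + 1) * h1 - (ψ : E → ℂ) 1 ^ 2 * he
      rw [irr_one_eq] at h2' ⊢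
      have : charDegree (ψ : E → ℂ) ^ 2 = 1 := by exact_mod_cast h2'
      exact_mod_cast Nat.pow_left_injective two_ne_zero (this.trans (one_pow 2).symm)
    refine arith hX0 hX1 hs₁ hs₂ (r₁ := e₁ * (ψ₁ : E → ℂ) te) (by rw [hc₁ te hteR]) hr₂
      (hnz _ _ hee₁) (hnz _ _ hee₂) ?_ ?_
    · rw [← hpairs]
      field_simp
    · intro hc
      rcases sq_eq_one_iff.mp hc with e' | e'
      · exact hd₁ (hdeg _ _ hee₁ (by rw [hs₁, e']; ring))
      · exact hd₂ (hdeg _ _ hee₂ (by rw [hs₂, e']; ring))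

end CfsgLib.Blocks.InertiaTwo
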